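import Mathlib
import Cfsg.Prelude.Def_LieTypeDatum
import Cfsg.Agent.Lib.Helper40.AutPOmFieldCent

/-!
# Graph-field automorphisms of `PΩ⁺`: twisting data

`TwData Q' Q`: an isometry (given by a matrix `H : ι × ι'` with two-sided inverse `H'`) from a
quadratic form `Q'` on `ι' → F` onto a quadratic form `Q` on `ι → F` (different index types of
the same size).  With `Q'` the base change of an `F₀`-form `Q₀` along `emb : F₀ →+* F` this gives
the twisted embedding `tw : GL ι' F₀ →* GL ι F`, `g₀ ↦ H (emb g₀) H'`, and the cocycle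
`H σ(H')`.
-/

set_option autoImplicit false
set_option linter.unusedSectionVars false
set_option linter.unusedVariables false

namespace Cfsg.Agent.Helper43.GF

open Matrix QuadraticMap Cfsg.Agent.Helper5.OrthAut Cfsg.Agent.Helper40.AutPOm

variable {F₀ : Type*} [Field F₀] {F : Type*} [Field F]
  {ι ι' : Type} [Fintype ι] [DecidableEq ι] [Fintype ι'] [DecidableEq ι']

/-- an isometry from `(ι' → F, Q')` onto `(ι → F, Q)`, as a pair of mutually inverse matrices -/
structure TwData (Q' : QuadraticForm F (ι' → F)) (Q : QuadraticForm F (ι → F)) where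
  H : Matrix ι ι' F
  H' : Matrix ι' ι F
  hHH' : H * H' = 1
  hH'H : H' * H = 1
  hQ : ∀ y : ι' → F, Q (H *ᵥ y) = Q' y

variable {Q' : QuadraticForm F (ι' → F)} {Q : QuadraticForm F (ι → F)}

theorem TwData.hQ' (T : TwData Q' Q) (x : ι → F) : Q' (T.H' *ᵥ x) = Q x := by
  rw [← T.hQ, Matrix.mulVec_mulVec, T.hHH', Matrix.one_mulVec]

/-- conjugation by the isometry: `GL ι' F →* GL ι F` -/
def TwData.conj (T : TwData Q' Q) : GL ι' F →* GL ι F where
  toFun g := ⟨T.H * (g : Matrix ι' ι' F) * T.H', T.H * ((g⁻¹ : GL ι' F) : Matrix ι' ι' F) * T.H', by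
      rw [Matrix.mul_assoc, Matrix.mul_assoc, ← Matrix.mul_assoc T.H', ← Matrix.mul_assoc T.H',
        T.hH'H, Matrix.one_mul, ← Matrix.mul_assoc (g : Matrix ι' ι' F), ← Units.val_mul,
        mul_inv_cancel, Units.val_one, Matrix.one_mul, T.hHH'], by
      rw [Matrix.mul_assoc, Matrix.mul_assoc, ← Matrix.mul_assoc T.H', ← Matrix.mul_assoc T.H',
        T.hH'H, Matrix.one_mul, ← Matrix.mul_assoc ((g⁻¹ : GL ι' F) : Matrix ι' ι' F),
        ← Units.val_mul, inv_mul_cancel, Units.val_one, Matrix.one_mul, T.hHH']⟩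
  map_one' := by
    apply Units.ext
    show T.H * ((1 : GL ι' F) : Matrix ι' ι' F) * T.H' = 1
    rw [Units.val_one, Matrix.mul_one, T.hHH']
  map_mul' g h := by
    apply Units.ext
    show T.H * ((g * h : GL ι' F) : Matrix ι' ι' F) * T.H' =
      (T.H * (g : Matrix ι' ι' F) * T.H') * (T.H * (h : Matrix ι' ι' F) * T.H')
    rw [Units.val_mul]
    simp only [Matrix.mul_assoc]
    rw [← Matrix.mul_assoc T.H' T.H, T.hH'H, Matrix.one_mul]

theorem TwData.conj_coe (T : TwData Q' Q) (g : GL ι' F) :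
    ((T.conj g : GL ι F) : Matrix ι ι F) = T.H * (g : Matrix ι' ι' F) * T.H' := rfl

/-- the twisted embedding `g₀ ↦ H (emb g₀) H'` -/
def TwData.tw (T : TwData Q' Q) (emb : F₀ →+* F) : GL ι' F₀ →* GL ι F :=
  T.conj.comp (Matrix.GeneralLinearGroup.map emb)

theorem TwData.tw_coe (T : TwData Q' Q) (emb : F₀ →+* F) (g₀ : GL ι' F₀) :
    ((T.tw emb g₀ : GL ι F) : Matrix ι ι F) = T.H * (g₀ : Matrix ι' ι' F₀).map emb * T.H' := rfl

/-- the cocycle `H σ(H')` of the twisting datum -/
def TwData.coc (T : TwData Q' Q) (σ : F ≃+* F) : Matrix ι ι F := T.H * T.H'.map σ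

/-- its inverse `σ(H) H'` -/
def TwData.coc' (T : TwData Q' Q) (σ : F ≃+* F) : Matrix ι ι F := T.H.map σ * T.H'

end Cfsg.Agent.Helper43.GF
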