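import Mathlib
import Cfsg.Agent.Lib.Helper43.GF.Defs
import Cfsg.Agent.Lib.Helper43.OrthCard

/-!
# Twisting data: basic facts (any characteristic)
-/

set_option autoImplicit false
set_option linter.unusedSectionVars false
set_option linter.unusedVariables false

namespace Cfsg.Agent.Helper43.GF

open Matrix QuadraticMap Cfsg.Agent.Helper5.OrthAut Cfsg.Agent.Helper40.AutPOm

section ext

variable {F₀ : Type*} [Field F₀] {F : Type*} [Field F] {κ : Type} [Fintype κ] [DecidableEq κ]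
  (emb : F₀ →+* F)

/-- two quadratic forms over `F` agreeing on the `F₀`-rational vectors agree -/
theorem qf_ext_emb (Q₁ Q₂ : QuadraticForm F (κ → F))
    (h : ∀ z : κ → F₀, Q₁ (mapV emb z) = Q₂ (mapV emb z)) : Q₁ = Q₂ := by
  apply Cfsg.Agent.Helper43.quadraticForm_ext_of_span Q₁ Q₂
    (fun i : κ => (Pi.single i (1 : F) : κ → F))
  · have : (fun i : κ => (Pi.single i (1 : F) : κ → F)) = ⇑(Pi.basisFun F κ) := by
      funext i
      simp
    rw [this]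
    exact Module.Basis.span_eq _
  · intro i
    rw [← mapV_single emb i]
    exact h _
  · intro i j
    simp only [polar]
    rw [← mapV_single emb i, ← mapV_single emb j, ← mapV_add, h, h, h]

/-- base change of a similarity (any characteristic) -/
theorem bc_sim {Q₀ : QuadraticForm F₀ (κ → F₀)} {Q' : QuadraticForm F (κ → F)}
    (hB : IsBC emb ⇑Q₀ ⇑Q') (g₀ : Matrix κ κ F₀) (μ₀ : F₀)
    (h : ∀ z, Q₀ (g₀ *ᵥ z) = μ₀ * Q₀ z) (y : κ → F) :
    Q' (g₀.map emb *ᵥ y) = emb μ₀ * Q' y := by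
  have key : Q'.comp (Matrix.toLin' (g₀.map emb)) = (emb μ₀) • Q' := by
    apply qf_ext_emb emb
    intro z
    rw [QuadraticMap.comp_apply, Matrix.toLin'_apply, _root_.smul_apply, smul_eq_mul,
      ← mapV_mulVec, hB, hB, h, map_mul]
  have := congrArg (fun q : QuadraticForm F (κ → F) => q y) key
  simpa [QuadraticMap.comp_apply, Matrix.toLin'_apply] using this

theorem rect_map_mulVec {κ' : Type} [Fintype κ'] (σ : F ≃+* F) (A : Matrix κ κ' F) (v : κ' → F) :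
    (A.map σ) *ᵥ (fun j => σ (v j)) = fun i => σ ((A *ᵥ v) i) := by
  funext i
  simp only [Matrix.mulVec, dotProduct, Matrix.map_apply, map_sum, map_mul]

theorem map_sigma_mul {a b c : Type} [Fintype b] (σ : F ≃+* F) (A : Matrix a b F)
    (B : Matrix b c F) : (A * B).map σ = A.map σ * B.map σ := by
  ext i j
  simp only [Matrix.map_apply, Matrix.mul_apply, map_sum, map_mul]

theorem map_sigma_one {a : Type} [DecidableEq a] (σ : F ≃+* F) :
    (1 : Matrix a a F).map σ = 1 := by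
  ext i j
  by_cases h : i = j
  · subst h; simp
  · simp [Matrix.one_apply_ne h]

end ext

section tw

variable {F₀ : Type*} [Field F₀] {F : Type*} [Field F]
  {ι ι' : Type} [Fintype ι] [DecidableEq ι] [Fintype ι'] [DecidableEq ι']
  {Q₀ : QuadraticForm F₀ (ι' → F₀)} {Q' : QuadraticForm F (ι' → F)} {Q : QuadraticForm F (ι → F)}
  (T : TwData Q' Q) (emb : F₀ →+* F)

theorem TwData.conj_sim (g : GL ι' F) (c : F) (hc : ∀ v, Q' ((g : Matrix ι' ι' F) *ᵥ v) = c * Q' v)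
    (x : ι → F) : Q (((T.conj g : GL ι F) : Matrix ι ι F) *ᵥ x) = c * Q x := by
  rw [T.conj_coe, ← Matrix.mulVec_mulVec, ← Matrix.mulVec_mulVec, T.hQ, hc, T.hQ']

theorem TwData.conj_mem_GO (g : GL ι' F) (hg : g ∈ GO Q') : T.conj g ∈ GO Q := by
  obtain ⟨c, hc⟩ := hg
  exact ⟨c, T.conj_sim g c hc⟩

theorem TwData.conj_mem_iso (g : GL ι' F) (hg : g ∈ Cfsg.isometryGroup F ⇑Q') :
    T.conj g ∈ Cfsg.isometryGroup F ⇑Q := by
  rw [mem_iso_iff] at hg ⊢
  intro x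
  have := T.conj_sim g 1 (fun v => by rw [hg v, one_mul]) x
  rw [one_mul] at this
  exact this

theorem TwData.tw_sim (hB : IsBC emb ⇑Q₀ ⇑Q') (g₀ : GL ι' F₀) (μ₀ : F₀)
    (h : ∀ z, Q₀ ((g₀ : Matrix ι' ι' F₀) *ᵥ z) = μ₀ * Q₀ z) (x : ι → F) :
    Q (((T.tw emb g₀ : GL ι F) : Matrix ι ι F) *ᵥ x) = emb μ₀ * Q x :=
  T.conj_sim (Matrix.GeneralLinearGroup.map emb g₀) (emb μ₀)
    (fun v => bc_sim emb hB (g₀ : Matrix ι' ι' F₀) μ₀ h v) x

theorem TwData.tw_mem_GO (hB : IsBC emb ⇑Q₀ ⇑Q') (g₀ : GL ι' F₀) (hg₀ : g₀ ∈ GO Q₀) :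
    T.tw emb g₀ ∈ GO Q := by
  obtain ⟨c, hc⟩ := hg₀
  have hc0 : emb (c : F₀) ≠ 0 := by
    rw [Ne, map_eq_zero_iff emb emb.injective]; exact c.ne_zero
  exact ⟨Units.mk0 _ hc0, T.tw_sim emb hB g₀ c hc⟩

/-- the twisted embedding on similarity groups -/
def TwData.twGO (hB : IsBC emb ⇑Q₀ ⇑Q') : ↥(GO Q₀) →* ↥(GO Q) :=
  ((T.tw emb).comp (GO Q₀).subtype).codRestrict (GO Q) (fun g => T.tw_mem_GO emb hB g.1 g.2)

theorem TwData.twGO_val (hB : IsBC emb ⇑Q₀ ⇑Q') (g : ↥(GO Q₀)) :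
    ((T.twGO emb hB g : ↥(GO Q)) : GL ι F) = T.tw emb g.1 := rfl

/-! ### the cocycle -/

variable (σ : F ≃+* F)

theorem TwData.sH'_mul_sH : T.H'.map σ * T.H.map σ = 1 := by
  rw [← map_sigma_mul, T.hH'H, map_sigma_one]

theorem TwData.sH_mul_sH' : T.H.map σ * T.H'.map σ = 1 := by
  rw [← map_sigma_mul, T.hHH', map_sigma_one]

theorem TwData.coc_mul_coc' : T.coc σ * T.coc' σ = 1 := by
  unfold TwData.coc TwData.coc'
  calc T.H * T.H'.map σ * (T.H.map σ * T.H')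
      = T.H * (T.H'.map σ * T.H.map σ) * T.H' := by simp only [Matrix.mul_assoc]
    _ = 1 := by rw [T.sH'_mul_sH, Matrix.mul_one, T.hHH']

theorem TwData.coc'_mul_coc : T.coc' σ * T.coc σ = 1 := by
  unfold TwData.coc TwData.coc'
  calc T.H.map σ * T.H' * (T.H * T.H'.map σ)
      = T.H.map σ * (T.H' * T.H) * T.H'.map σ := by simp only [Matrix.mul_assoc]
    _ = 1 := by rw [T.hH'H, Matrix.mul_one, T.sH_mul_sH']

/-- the cocycle as an element of `GL` -/
def TwData.cocGL : GL ι F := ⟨T.coc σ, T.coc' σ, T.coc_mul_coc' σ, T.coc'_mul_coc σ⟩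

theorem TwData.cocGL_coe : ((T.cocGL σ : GL ι F) : Matrix ι ι F) = T.coc σ := rfl

theorem TwData.coc_isometry (hσ' : σ ∈ QAut ⇑Q') (hσQ : σ ∈ QAut ⇑Q) (v : ι → F) :
    Q (T.coc σ *ᵥ v) = Q v := by
  obtain ⟨w, rfl⟩ := exists_sigma_eq σ v
  unfold TwData.coc
  rw [← Matrix.mulVec_mulVec, T.hQ]
  have h1 : (T.H'.map σ) *ᵥ (fun i => σ (w i)) = fun i => σ ((T.H' *ᵥ w) i) :=
    rect_map_mulVec σ T.H' w
  rw [h1, hσ' (T.H' *ᵥ w), T.hQ', hσQ w]

theorem TwData.cocGL_mem_GO (hσ' : σ ∈ QAut ⇑Q') (hσQ : σ ∈ QAut ⇑Q) : T.cocGL σ ∈ GO Q :=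
  ⟨1, fun v => by
    rw [Units.val_one, one_mul]
    exact T.coc_isometry σ hσ' hσQ v⟩

theorem TwData.coc_mul_sigma_coc (hσ2 : σ * σ = 1) : T.coc σ * (T.coc σ).map σ = 1 := by
  unfold TwData.coc
  have h2 : (T.H'.map σ).map σ = T.H' := by
    ext i j
    show σ (σ (T.H' i j)) = T.H' i j
    have := DFunLike.congr_fun hσ2 (T.H' i j)
    exact this
  rw [map_sigma_mul, h2]
  calc T.H * T.H'.map σ * (T.H.map σ * T.H')
      = T.H * (T.H'.map σ * T.H.map σ) * T.H' := by simp only [Matrix.mul_assoc]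
    _ = 1 := by rw [T.sH'_mul_sH, Matrix.mul_one, T.hHH']

/-- the key relation: the twisted embedding commutes with the twisted Frobenius -/
theorem TwData.coc_tw (hι1 : ∀ a, σ (emb a) = emb a) (g₀ : GL ι' F₀) :
    T.coc σ * ((T.tw emb g₀ : GL ι F) : Matrix ι ι F).map σ =
      ((T.tw emb g₀ : GL ι F) : Matrix ι ι F) * T.coc σ := by
  rw [T.tw_coe]
  unfold TwData.coc
  have hfix : ((g₀ : Matrix ι' ι' F₀).map emb).map σ = (g₀ : Matrix ι' ι' F₀).map emb := by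
    ext i j
    exact hι1 _
  rw [map_sigma_mul, map_sigma_mul, hfix]
  have h1 : T.H'.map σ * T.H.map σ = 1 := T.sH'_mul_sH σ
  calc T.H * T.H'.map σ * (T.H.map σ * (g₀ : Matrix ι' ι' F₀).map emb * T.H'.map σ)
      = T.H * (T.H'.map σ * T.H.map σ) * (g₀ : Matrix ι' ι' F₀).map emb * T.H'.map σ := by
        simp only [Matrix.mul_assoc]
    _ = T.H * (g₀ : Matrix ι' ι' F₀).map emb * T.H'.map σ := by rw [h1, Matrix.mul_one]
    _ = T.H * (g₀ : Matrix ι' ι' F₀).map emb * (T.H' * T.H) * T.H'.map σ := by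
        rw [T.hH'H, Matrix.mul_one]
    _ = _ := by simp only [Matrix.mul_assoc]

end tw

end Cfsg.Agent.Helper43.GF
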