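import Mathlib
import Cfsg.Agent.Lib.Helper43.GF.Basic

/-!
# The centraliser in `PGO(Q)` of the twisted field automorphism `x₁ = PhiGO(H σ(H')) φ_σ`
(any characteristic)
-/

set_option autoImplicit false
set_option linter.unusedSectionVars false
set_option linter.unusedVariables false

namespace Cfsg.Agent.Helper43.GF

open Matrix QuadraticMap Cfsg.Agent.Helper5.OrthAut Cfsg.Agent.Helper40.AutPOm
  Cfsg.Agent.Helper40.LangO Cfsg.Agent.Helper40.AutPSLNorm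

variable {F₀ : Type*} [Field F₀] {F : Type*} [Field F]
  {ι ι' : Type} [Fintype ι] [DecidableEq ι] [Fintype ι'] [DecidableEq ι']
  {Q₀ : QuadraticForm F₀ (ι' → F₀)} {Q' : QuadraticForm F (ι' → F)} {Q : QuadraticForm F (ι → F)}
  (T : TwData Q' Q) (emb : F₀ →+* F) (hB : IsBC emb ⇑Q₀ ⇑Q')
  (hQA : ∀ σ : F ≃+* F, σ ∈ QAut (⇑Q))
  (hperf : commutator ↥(Cfsg.Omega F ⇑Q) = ⊤)
  (hcent : ∀ Z : Matrix ι ι F, (∀ s : ↥(Cfsg.Omega F ⇑Q), Z * omat (⇑Q) s = omat (⇑Q) s * Z) →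
      ∃ c : F, Z = c • (1 : Matrix ι ι F))
  (σ : F ≃+* F) (hσ' : σ ∈ QAut (⇑Q'))

/-- the inverse twisting datum -/
def TwData.symm : TwData Q Q' := ⟨T.H', T.H, T.hH'H, T.hHH', T.hQ'⟩

/-- the cocycle as an element of `GO(Q)` -/
def TwData.cocGO : ↥(GO Q) := ⟨T.cocGL σ, T.cocGL_mem_GO σ hσ' (hQA σ)⟩

/-- the twisted field automorphism -/
noncomputable def TwData.x1 : MulAut (Cfsg.POmega F ⇑Q) :=
  PhiGO (⇑Q) (T.cocGO hQA σ hσ') * fieldAutStd (⇑Q) hQA σ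

/-- the twisted embedding into `Aut(PΩ(Q))` -/
noncomputable def TwData.Theta : ↥(GO Q₀) →* MulAut (Cfsg.POmega F ⇑Q) :=
  (PhiGO (⇑Q)).comp (T.twGO emb hB)

theorem TwData.Theta_apply (g : ↥(GO Q₀)) :
    T.Theta emb hB g = PhiGO (⇑Q) (T.twGO emb hB g) := rfl

theorem TwData.x1_conj_PhiGO (g : ↥(GO Q)) :
    T.x1 hQA σ hσ' * PhiGO (⇑Q) g * (T.x1 hQA σ hσ')⁻¹ =
      PhiGO (⇑Q) (T.cocGO hQA σ hσ' * sigmaGO (⇑Q) (toQAut (⇑Q) hQA σ) g *
        (T.cocGO hQA σ hσ')⁻¹) := by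
  unfold TwData.x1
  rw [map_mul, map_mul, map_inv, ← fieldAutStd_conj_PhiGO (⇑Q) hQA σ g]
  group

include hperf hcent in
theorem TwData.mem_centralizer_iff (g : ↥(GO Q)) :
    PhiGO (⇑Q) g ∈ Subgroup.centralizer {T.x1 hQA σ hσ'} ↔
      ∃ c : Fˣ, ((g : GL ι F) : Matrix ι ι F) * T.coc σ =
        (c : F) • (T.coc σ * ((g : GL ι F) : Matrix ι ι F).map σ) := by
  rw [Subgroup.mem_centralizer_iff]
  have h1 : (∀ h ∈ ({T.x1 hQA σ hσ'} : Set (MulAut (Cfsg.POmega F ⇑Q))),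
      h * PhiGO (⇑Q) g = PhiGO (⇑Q) g * h) ↔
      T.x1 hQA σ hσ' * PhiGO (⇑Q) g * (T.x1 hQA σ hσ')⁻¹ = PhiGO (⇑Q) g := by
    constructor
    · intro h
      rw [h _ rfl, mul_assoc, mul_inv_cancel, mul_one]
    · rintro h _ rfl
      calc T.x1 hQA σ hσ' * PhiGO (⇑Q) g
          = (T.x1 hQA σ hσ' * PhiGO (⇑Q) g * (T.x1 hQA σ hσ')⁻¹) * T.x1 hQA σ hσ' := by group
        _ = PhiGO (⇑Q) g * T.x1 hQA σ hσ' := by rw [h]
  rw [h1, T.x1_conj_PhiGO, eq_comm, PhiGO_eq_iff Q hperf hcent, Cfsg.Geo.mem_scalars_iff]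
  -- matrices
  set gM : Matrix ι ι F := ((g : GL ι F) : Matrix ι ι F) with hgM
  have hcoe : (((T.cocGO hQA σ hσ' * sigmaGO (⇑Q) (toQAut (⇑Q) hQA σ) g *
      (T.cocGO hQA σ hσ')⁻¹ : ↥(GO Q)) : GL ι F) : Matrix ι ι F) =
      T.coc σ * gM.map σ * T.coc' σ := rfl
  constructor
  · rintro ⟨c, hc⟩
    refine ⟨c, ?_⟩
    rw [Units.val_mul] at hc
    -- g = c • (coc σ(g) coc')
    have h2 : gM = (c : F) • (T.coc σ * gM.map σ * T.coc' σ) := by
      have h3 : (T.coc σ * gM.map σ * T.coc' σ) *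
          ((((T.cocGO hQA σ hσ' * sigmaGO (⇑Q) (toQAut (⇑Q) hQA σ) g *
            (T.cocGO hQA σ hσ')⁻¹ : ↥(GO Q)) : GL ι F)⁻¹ : GL ι F).val * gM) =
          (T.coc σ * gM.map σ * T.coc' σ) * ((c : F) • (1 : Matrix ι ι F)) := by rw [hc]
      rw [← Matrix.mul_assoc, ← hcoe, ← Units.val_mul, mul_inv_cancel, Units.val_one,
        Matrix.one_mul, Matrix.mul_smul, Matrix.mul_one] at h3
      exact h3
    calc gM * T.coc σ = ((c : F) • (T.coc σ * gM.map σ * T.coc' σ)) * T.coc σ := by rw [← h2]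
      _ = (c : F) • (T.coc σ * gM.map σ * (T.coc' σ * T.coc σ)) := by
          rw [Matrix.smul_mul]; simp only [Matrix.mul_assoc]
      _ = _ := by rw [T.coc'_mul_coc, Matrix.mul_one]
  · rintro ⟨c, hc⟩
    refine ⟨c, ?_⟩
    have h2 : gM = (c : F) • (T.coc σ * gM.map σ * T.coc' σ) := by
      calc gM = gM * (T.coc σ * T.coc' σ) := by rw [T.coc_mul_coc', Matrix.mul_one]
        _ = (gM * T.coc σ) * T.coc' σ := by rw [Matrix.mul_assoc]
        _ = _ := by rw [hc, Matrix.smul_mul]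
    rw [Units.val_mul]
    have h3 : ((((T.cocGO hQA σ hσ' * sigmaGO (⇑Q) (toQAut (⇑Q) hQA σ) g *
        (T.cocGO hQA σ hσ')⁻¹ : ↥(GO Q)) : GL ι F)⁻¹ : GL ι F).val * gM) =
        ((((T.cocGO hQA σ hσ' * sigmaGO (⇑Q) (toQAut (⇑Q) hQA σ) g *
        (T.cocGO hQA σ hσ')⁻¹ : ↥(GO Q)) : GL ι F)⁻¹ : GL ι F).val *
          ((c : F) • (T.coc σ * gM.map σ * T.coc' σ))) := by rw [← h2]
    rw [h3, Matrix.mul_smul, ← hcoe, ← Units.val_mul, inv_mul_cancel, Units.val_one]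


include hperf hcent in
theorem TwData.ker_Theta [Nonempty ι'] :
    (T.Theta emb hB).ker = (Cfsg.Geo.scalars ι' F₀).subgroupOf (GO Q₀) := by
  ext g
  rw [MonoidHom.mem_ker, TwData.Theta_apply, PhiGO_eq_one_iff Q hperf hcent, TwData.twGO_val,
    Subgroup.mem_subgroupOf, ← emb_mem_scalars_iff_I (emb := emb), Cfsg.Geo.mem_scalars_iff,
    Cfsg.Geo.mem_scalars_iff]
  have hcoe : ((Matrix.GeneralLinearGroup.map emb (g : GL ι' F₀) : GL ι' F) : Matrix ι' ι' F) =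
      ((g : GL ι' F₀) : Matrix ι' ι' F₀).map emb := rfl
  constructor
  · rintro ⟨c, hc⟩
    refine ⟨c, ?_⟩
    rw [T.tw_coe] at hc
    rw [hcoe]
    calc ((g : GL ι' F₀) : Matrix ι' ι' F₀).map emb
        = (T.H' * T.H) * ((g : GL ι' F₀) : Matrix ι' ι' F₀).map emb * (T.H' * T.H) := by
          rw [T.hH'H, Matrix.one_mul, Matrix.mul_one]
      _ = T.H' * (T.H * ((g : GL ι' F₀) : Matrix ι' ι' F₀).map emb * T.H') * T.H := by
          simp only [Matrix.mul_assoc]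
      _ = _ := by rw [hc, Matrix.mul_smul, Matrix.mul_one, Matrix.smul_mul, T.hH'H]
  · rintro ⟨c, hc⟩
    refine ⟨c, ?_⟩
    rw [T.tw_coe, ← hcoe, hc, Matrix.mul_smul, Matrix.mul_one, Matrix.smul_mul, T.hHH']

include hperf hcent in
/-- the range of `Theta` is `PGO(Q) ⊓ C(x₁)` -/
theorem TwData.range_Theta [Finite F] [Nonempty ι'] (hQ0 : ∃ z : ι' → F₀, Q₀ z ≠ 0)
    (hσ : orderOf σ = 2)
    (hι1 : ∀ a, σ (emb a) = emb a) (hι2 : ∀ a, σ a = a → ∃ x, emb x = a) :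
    (T.Theta emb hB).range =
      (PhiGO (⇑Q)).range ⊓ Subgroup.centralizer {T.x1 hQA σ hσ'} := by
  classical
  ext β
  constructor
  · rintro ⟨g₀, rfl⟩
    refine Subgroup.mem_inf.2 ⟨⟨_, rfl⟩, ?_⟩
    rw [TwData.Theta_apply, T.mem_centralizer_iff hQA hperf hcent]
    refine ⟨1, ?_⟩
    rw [Units.val_one, one_smul, TwData.twGO_val]
    exact (T.coc_tw emb σ hι1 g₀.1).symm
  · intro hβ
    obtain ⟨⟨g, rfl⟩, hc⟩ := Subgroup.mem_inf.1 hβ
    rw [T.mem_centralizer_iff hQA hperf hcent] at hc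
    obtain ⟨c, hc⟩ := hc
    set gM : Matrix ι ι F := ((g : GL ι F) : Matrix ι ι F) with hgM
    -- g' = H' g H
    set g' : GL ι' F := T.symm.conj g.1 with hg'
    have hg'coe : (g' : Matrix ι' ι' F) = T.H' * gM * T.H := rfl
    -- `g' = c • σ(g')`
    have hrel0 : (g' : Matrix ι' ι' F) = (c : F) • (g' : Matrix ι' ι' F).map σ := by
      have h1 : T.H' * (gM * T.coc σ) * T.H.map σ =
          T.H' * ((c : F) • (T.coc σ * gM.map σ)) * T.H.map σ := by rw [hc]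
      have hl : T.H' * (gM * T.coc σ) * T.H.map σ = (g' : Matrix ι' ι' F) := by
        unfold TwData.coc
        calc T.H' * (gM * (T.H * T.H'.map σ)) * T.H.map σ
            = T.H' * gM * T.H * (T.H'.map σ * T.H.map σ) := by simp only [Matrix.mul_assoc]
          _ = _ := by rw [T.sH'_mul_sH, Matrix.mul_one, hg'coe]
      have hr : T.H' * ((c : F) • (T.coc σ * gM.map σ)) * T.H.map σ =
          (c : F) • (g' : Matrix ι' ι' F).map σ := by
        unfold TwData.coc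
        rw [Matrix.mul_smul, Matrix.smul_mul, hg'coe, map_sigma_mul, map_sigma_mul]
        congr 1
        calc T.H' * (T.H * T.H'.map σ * gM.map σ) * T.H.map σ
            = (T.H' * T.H) * T.H'.map σ * gM.map σ * T.H.map σ := by simp only [Matrix.mul_assoc]
          _ = _ := by rw [T.hH'H, Matrix.one_mul]
      rw [hl, hr] at h1
      exact h1
    have hrel : smI σ (g' : Matrix ι' ι' F) = ((c⁻¹ : Fˣ) : F) • (g' : Matrix ι' ι' F) := by
      show (g' : Matrix ι' ι' F).map σ = _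
      conv_rhs => rw [hrel0]
      rw [smul_smul, ← Units.val_mul, inv_mul_cancel, Units.val_one, one_smul]
    obtain ⟨d, hd⟩ := exists_fixed_smul_I σ (by norm_num : 0 < 2) hσ g' c⁻¹ hrel
    set g₂ : Matrix ι' ι' F := (d : F) • (g' : Matrix ι' ι' F) with hg₂
    -- descend to `F₀`
    choose G₀ hG₀ using fun i j => hι2 (g₂ i j) (congrFun (congrFun hd i) j)
    have hG₀map : (Matrix.of G₀ : Matrix ι' ι' F₀).map emb = g₂ := by
      ext i j
      exact hG₀ i j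
    have hg'det : (g' : Matrix ι' ι' F).det ≠ 0 := by
      intro h0
      have h1 : (g' : Matrix ι' ι' F) * ((g'⁻¹ : GL ι' F) : Matrix ι' ι' F) = 1 := by
        rw [← Units.val_mul, mul_inv_cancel, Units.val_one]
      have := congrArg Matrix.det h1
      rw [Matrix.det_mul, h0, zero_mul, Matrix.det_one] at this
      exact zero_ne_one this
    have hg₂det : g₂.det ≠ 0 := by
      rw [hg₂, Matrix.det_smul]
      exact mul_ne_zero (pow_ne_zero _ d.ne_zero) hg'det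
    have hG₀det : (Matrix.of G₀ : Matrix ι' ι' F₀).det ≠ 0 := by
      intro h0
      have h1 : emb (Matrix.of G₀ : Matrix ι' ι' F₀).det =
          ((Matrix.of G₀ : Matrix ι' ι' F₀).map emb).det := RingHom.map_det _ _
      rw [h0, map_zero, hG₀map] at h1
      exact hg₂det h1.symm
    let g₀ : GL ι' F₀ := Matrix.GeneralLinearGroup.mkOfDetNeZero (Matrix.of G₀) hG₀det
    have hg₀coe : ((g₀ : GL ι' F₀) : Matrix ι' ι' F₀).map emb = g₂ := hG₀map
    -- `tw g₀ = d • g`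
    have htw : ((T.tw emb g₀ : GL ι F) : Matrix ι ι F) = (d : F) • gM := by
      rw [T.tw_coe, hg₀coe, hg₂, hg'coe, Matrix.mul_smul, Matrix.smul_mul]
      congr 1
      calc T.H * (T.H' * gM * T.H) * T.H' = (T.H * T.H') * gM * (T.H * T.H') := by
            simp only [Matrix.mul_assoc]
        _ = gM := by rw [T.hHH', Matrix.one_mul, Matrix.mul_one]
    -- `g₀` is a similarity
    obtain ⟨μ, hμ⟩ := g.2
    have hsimF : ∀ z : ι' → F₀, emb (Q₀ ((g₀ : Matrix ι' ι' F₀) *ᵥ z)) =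
        ((d : F) * (d : F) * (μ : F)) * emb (Q₀ z) := by
      intro z
      rw [← hB, mapV_mulVec, hg₀coe, hg₂, hg'coe, ← T.hQ, Matrix.mulVec_mulVec, Matrix.mul_smul,
        Matrix.smul_mulVec, QuadraticMap.map_smul, smul_eq_mul]
      have e1 : T.H * (T.H' * gM * T.H) = gM * T.H := by
        calc T.H * (T.H' * gM * T.H) = (T.H * T.H') * gM * T.H := by
              simp only [Matrix.mul_assoc]
          _ = _ := by rw [T.hHH', Matrix.one_mul]
      rw [e1, ← Matrix.mulVec_mulVec, hμ, T.hQ, hB]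
      ring
    obtain ⟨z₁, hz₁⟩ := hQ0
    have hez₁ : emb (Q₀ z₁) ≠ 0 := by
      rw [Ne, map_eq_zero_iff emb emb.injective]; exact hz₁
    set μ₀ : F₀ := Q₀ ((g₀ : Matrix ι' ι' F₀) *ᵥ z₁) * (Q₀ z₁)⁻¹ with hμ₀
    have hμ₀e : emb μ₀ = (d : F) * (d : F) * (μ : F) := by
      rw [hμ₀, map_mul, map_inv₀, hsimF z₁]
      field_simp
    have hμ₀0 : μ₀ ≠ 0 := by
      intro h0
      rw [h0, map_zero] at hμ₀e
      exact (mul_ne_zero (mul_ne_zero d.ne_zero d.ne_zero) μ.ne_zero) hμ₀e.symm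
    have hg₀GO : g₀ ∈ GO Q₀ := by
      refine ⟨Units.mk0 μ₀ hμ₀0, fun z => ?_⟩
      apply emb.injective
      rw [hsimF z, Units.val_mk0, map_mul, hμ₀e]
    refine ⟨⟨g₀, hg₀GO⟩, ?_⟩
    rw [TwData.Theta_apply]
    have h5 : T.twGO emb hB ⟨g₀, hg₀GO⟩ = g * scGO Q d := by
      apply Subtype.ext
      apply Units.ext
      show ((T.tw emb g₀ : GL ι F) : Matrix ι ι F) =
        gM * (((scGO Q d : ↥(GO Q)) : GL ι F) : Matrix ι ι F)
      rw [htw, scGO_coe, Matrix.mul_smul, Matrix.mul_one]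
    rw [h5, map_mul, PhiGO_scGO Q hperf hcent, mul_one]

end Cfsg.Agent.Helper43.GF
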