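import Mathlib
import Cfsg.Agent.Lib.Helper43.GF.Cent
import Cfsg.Agent.Lib.Helper40.OrthEvenFinal
import Cfsg.Agent.Lib.Helper5.OMFChar2

/-!
# Graph-field involutions of `PΩ⁺`: the centraliser of the twisted field automorphism `x₁` in `Inndiag`
-/

set_option autoImplicit false
set_option linter.unusedSectionVars false
set_option linter.unusedVariables false

namespace Cfsg.Agent.Helper43.GF

open Matrix QuadraticMap Cfsg.Agent.Helper5.OrthAut Cfsg.Agent.Helper40.AutPOm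
  Cfsg.Agent.Helper40.OrthEven Cfsg.Agent.Helper43

section Generic

variable {F₀ : Type*} [Field F₀] {F : Type*} [Field F] [Fintype F]
  {ι ι' : Type} [Fintype ι] [DecidableEq ι] [Fintype ι'] [DecidableEq ι']
  {Q₀ : QuadraticForm F₀ (ι' → F₀)} {Q' : QuadraticForm F (ι' → F)} {Q : QuadraticForm F (ι → F)}
  (T : TwData Q' Q) (emb : F₀ →+* F) (hB : IsBC emb ⇑Q₀ ⇑Q')
  (hQA : ∀ σ : F ≃+* F, σ ∈ QAut (⇑Q))
  (hperf : commutator ↥(Cfsg.Omega F ⇑Q) = ⊤)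
  (hcent : ∀ Z : Matrix ι ι F, (∀ s : ↥(Cfsg.Omega F ⇑Q), Z * omat (⇑Q) s = omat (⇑Q) s * Z) →
      ∃ c : F, Z = c • (1 : Matrix ι ι F))
  (σ : F ≃+* F) (hσ' : σ ∈ QAut (⇑Q')) (C : ClassChar Q)

/-- the `F₀`-similarities whose twisted image is class-preserving -/
def TwData.Gam0 : Subgroup ↥(GO Q₀) := (C.χ.comp (T.twGO emb hB)).ker

theorem TwData.mem_Gam0 (g : ↥(GO Q₀)) : g ∈ T.Gam0 emb hB C ↔ C.χ (T.twGO emb hB g) = 1 :=
  MonoidHom.mem_ker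

include hperf hcent in
theorem TwData.cent_inD_eq_map [Nonempty ι'] (hQ0 : ∃ z : ι' → F₀, Q₀ z ≠ 0)
    (hσ : orderOf σ = 2)
    (hι1 : ∀ a, σ (emb a) = emb a) (hι2 : ∀ a, σ a = a → ∃ x, emb x = a) :
    inD Q C ⊓ Subgroup.centralizer {T.x1 hQA σ hσ'} =
      (T.Gam0 emb hB C).map (T.Theta emb hB) := by
  have hrange := T.range_Theta emb hB hQA hperf hcent σ hσ' hQ0 hσ hι1 hι2
  ext β
  constructor
  · intro hβ
    obtain ⟨hβ1, hβ2⟩ := Subgroup.mem_inf.1 hβ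
    obtain ⟨g, hχ, rfl⟩ := (mem_inD_iff Q C β).1 hβ1
    have h1 : PhiGO (⇑Q) g ∈ (T.Theta emb hB).range := by
      rw [hrange]
      exact Subgroup.mem_inf.2 ⟨⟨g, rfl⟩, hβ2⟩
    obtain ⟨g₀, hg₀⟩ := h1
    refine ⟨g₀, ?_, hg₀⟩
    rw [SetLike.mem_coe, TwData.mem_Gam0]
    rw [TwData.Theta_apply] at hg₀
    have h2 : PhiGO (⇑Q) (g⁻¹ * T.twGO emb hB g₀) = 1 := by
      rw [map_mul, map_inv, hg₀, inv_mul_cancel]
    rw [PhiGO_eq_one_iff Q hperf hcent] at h2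
    obtain ⟨c, hc⟩ := exists_sclHom_of_mem h2
    have h3 : g⁻¹ * T.twGO emb hB g₀ = scGO Q c := Subtype.ext hc
    have h4 : T.twGO emb hB g₀ = g * scGO Q c := by rw [← h3]; group
    rw [h4, map_mul, hχ, C.scalar, one_mul]
  · rintro ⟨g₀, hg₀, rfl⟩
    rw [SetLike.mem_coe, TwData.mem_Gam0] at hg₀
    refine Subgroup.mem_inf.2 ⟨?_, ?_⟩
    · rw [mem_inD_iff]
      exact ⟨T.twGO emb hB g₀, hg₀, rfl⟩
    · have h1 : T.Theta emb hB g₀ ∈ (T.Theta emb hB).range := ⟨g₀, rfl⟩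
      rw [hrange] at h1
      exact (Subgroup.mem_inf.1 h1).2

end Generic

section Minus

variable {F₀ : Type*} [Field F₀] [Fintype F₀] {F : Type*} [Field F] [Fintype F]

local notation "I'" k => ((Fin k ⊕ Fin k) ⊕ Fin 2)

/-- the inner-diagonal group of the minus-type group as the image of `Gam0` -/
theorem inndiagMinus_eq_map (emb : F₀ →+* F) (k : ℕ) (a₀ b₀ : F₀)
    (T : TwData (stdMinus F k (emb a₀) (emb b₀)) (stdPlus F (k + 1)))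
    (C : ClassChar (stdPlus F (k + 1)))
    (hCL : ∀ (g₀ : GL (I' k) F₀), g₀ ∈ GO (stdMinus F₀ k a₀ b₀) →
      (Cfsg.PreservesSingularClasses (⇑(stdPlus F (k + 1)))
        ((T.tw emb g₀ : GL (Fin (k + 1) ⊕ Fin (k + 1)) F) :
          Matrix (Fin (k + 1) ⊕ Fin (k + 1)) (Fin (k + 1) ⊕ Fin (k + 1)) F) ↔
      Cfsg.PreservesSingularClassesMinus k a₀ b₀ (g₀ : Matrix (I' k) (I' k) F₀))) :
    Cfsg.autSubgroupOf (fun β : Cfsg.POmega F₀ ⇑(stdMinus F₀ k a₀ b₀) ≃*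
        Cfsg.POmega F₀ ⇑(stdMinus F₀ k a₀ b₀) =>
      ∃ g : GL (I' k) F₀,
        g ∈ Cfsg.Geo.quadSimilarityGroup (F := F₀) ⇑(stdMinus F₀ k a₀ b₀) ∧
        Cfsg.PreservesSingularClassesMinus k a₀ b₀ (g : Matrix (I' k) (I' k) F₀) ∧
        Cfsg.IsInducedBySemilinearPOmega ⇑(stdMinus F₀ k a₀ b₀) g (RingEquiv.refl F₀) β) =
      (T.Gam0 emb (Cfsg.Agent.Helper5.OMF.isBC_stdMinus k emb a₀ b₀) C).map
        (PhiGO ⇑(stdMinus F₀ k a₀ b₀)) := by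
  have hset : {β : MulAut (Cfsg.POmega F₀ ⇑(stdMinus F₀ k a₀ b₀)) |
      ∃ g : GL (I' k) F₀,
        g ∈ Cfsg.Geo.quadSimilarityGroup (F := F₀) ⇑(stdMinus F₀ k a₀ b₀) ∧
        Cfsg.PreservesSingularClassesMinus k a₀ b₀ (g : Matrix (I' k) (I' k) F₀) ∧
        Cfsg.IsInducedBySemilinearPOmega ⇑(stdMinus F₀ k a₀ b₀) g (RingEquiv.refl F₀) β} =
      (((T.Gam0 emb (Cfsg.Agent.Helper5.OMF.isBC_stdMinus k emb a₀ b₀) C).map
        (PhiGO ⇑(stdMinus F₀ k a₀ b₀)) :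
        Subgroup (MulAut (Cfsg.POmega F₀ ⇑(stdMinus F₀ k a₀ b₀)))) :
        Set (MulAut (Cfsg.POmega F₀ ⇑(stdMinus F₀ k a₀ b₀)))) := by
    ext β
    rw [SetLike.mem_coe]
    constructor
    · rintro ⟨g, hg, hpres, hind⟩
      refine ⟨⟨g, hg⟩, ?_, ?_⟩
      · rw [SetLike.mem_coe, TwData.mem_Gam0, C.pres, TwData.twGO_val]
        exact (hCL g hg).2 hpres
      · exact ((induced_iff _ ⟨g, sim_le_NO _ hg⟩ β).1 hind).symm
    · rintro ⟨g, hg, rfl⟩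
      rw [SetLike.mem_coe, TwData.mem_Gam0, C.pres, TwData.twGO_val] at hg
      exact ⟨g.1, g.2, (hCL g.1 g.2).1 hg, (induced_iff _ ⟨g.1, sim_le_NO _ g.2⟩ _).2 rfl⟩
  unfold Cfsg.autSubgroupOf
  rw [hset, Subgroup.closure_eq]

end Minus

end Cfsg.Agent.Helper43.GF
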