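import Mathlib
import Cfsg.Agent.Lib.Helper43.GF.Basic
import Cfsg.Agent.Lib.Helper5.OrthLag8
import Cfsg.Agent.Lib.Helper5.OMFClass

/-!
# Class preservation of a twisted `F₀`-similarity in terms of its determinant (odd characteristic)
-/

set_option autoImplicit false
set_option linter.unusedSectionVars false
set_option linter.unusedVariables false

namespace Cfsg.Agent.Helper43.GF

open Matrix QuadraticMap Cfsg.Agent.Helper5.OrthAut Cfsg.Agent.Helper40.AutPOm Cfsg.Agent.Helper43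

theorem stdPlus_exists_ne {F : Type*} [Field F] (k : ℕ) :
    ∃ v : (Fin (k + 1) ⊕ Fin (k + 1)) → F, stdPlus F (k + 1) v ≠ 0 := by
  have hfam := stdPlus_isHypFamily F (k + 1)
  refine ⟨(Pi.single (Sum.inl 0) 1 : (Fin (k + 1) ⊕ Fin (k + 1)) → F) + Pi.single (Sum.inr 0) 1, ?_⟩
  have h1 := hfam.qe 0
  have h3 := hfam.qf 0
  have h4 := hfam.ef 0 0
  simp only at h1 h3 h4
  rw [QuadraticMap.map_add (stdPlus F (k + 1)), h1, h3, h4]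
  simp

theorem psc_tw_iff_det {F₀ F : Type*} [Field F₀] [Fintype F₀] [Field F] [Fintype F] (emb : F₀ →+* F)
    (h2 : (2 : F) ≠ 0) {k : ℕ} (a₀ b₀ : F₀)
    (T : TwData (stdMinus F k (emb a₀) (emb b₀)) (stdPlus F (k + 1)))
    (g₀ : GL ((Fin k ⊕ Fin k) ⊕ Fin 2) F₀) (ν : F₀ˣ)
    (hν : ∀ z, stdMinus F₀ k a₀ b₀ ((g₀ : Matrix _ _ F₀) *ᵥ z) = (ν : F₀) * stdMinus F₀ k a₀ b₀ z) :
    Cfsg.PreservesSingularClasses (⇑(stdPlus F (k + 1)))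
        ((T.tw emb g₀ : GL (Fin (k + 1) ⊕ Fin (k + 1)) F) :
          Matrix (Fin (k + 1) ⊕ Fin (k + 1)) (Fin (k + 1) ⊕ Fin (k + 1)) F) ↔
      (g₀ : Matrix ((Fin k ⊕ Fin k) ⊕ Fin 2) ((Fin k ⊕ Fin k) ⊕ Fin 2) F₀).det = (ν : F₀) ^ (k + 1) := by
  classical
  have hB := Cfsg.Agent.Helper5.OMF.isBC_stdMinus (F := F) k emb a₀ b₀
  have hg₀ : g₀ ∈ GO (stdMinus F₀ k a₀ b₀) := ⟨ν, hν⟩
  have htw : T.tw emb g₀ ∈ GO (stdPlus F (k + 1)) := T.tw_mem_GO emb hB g₀ hg₀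
  have hQ0' := stdPlus_exists_ne (F := F) k
  refine (preserves_iff_dHom_plus (k + 1) h2 hQ0' _ htw).trans ?_
  have hν0 : emb (ν : F₀) ≠ 0 := by
    rw [Ne, map_eq_zero_iff emb emb.injective]; exact ν.ne_zero
  have hmult : mult (stdPlus F (k + 1)) ⟨T.tw emb g₀, htw⟩ = Units.mk0 (emb (ν : F₀)) hν0 := by
    apply mult_unique (stdPlus F (k + 1)) hQ0'
    intro w
    exact T.tw_sim emb hB g₀ ν hν w
  have hdet : ((T.tw emb g₀ : GL (Fin (k + 1) ⊕ Fin (k + 1)) F) :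
      Matrix (Fin (k + 1) ⊕ Fin (k + 1)) (Fin (k + 1) ⊕ Fin (k + 1)) F).det =
      emb ((g₀ : Matrix ((Fin k ⊕ Fin k) ⊕ Fin 2) ((Fin k ⊕ Fin k) ⊕ Fin 2) F₀).det) := by
    rw [T.tw_coe, Matrix.det_conj_of_mul_eq_one T.hHH' T.hH'H, RingHom.map_det]
    rfl
  rw [← Units.val_inj, dHom_coe, Units.val_one, hmult, Units.val_mk0]
  show ((T.tw emb g₀ : GL (Fin (k + 1) ⊕ Fin (k + 1)) F) :
      Matrix (Fin (k + 1) ⊕ Fin (k + 1)) (Fin (k + 1) ⊕ Fin (k + 1)) F).det * _ = 1 ↔ _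
  rw [hdet, mul_inv_eq_one₀ (pow_ne_zero _ hν0), ← map_pow]
  exact emb.injective.eq_iff

end Cfsg.Agent.Helper43.GF
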