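import Mathlib
import Cfsg.Agent.Lib.Helper43.GF.Cent
import Cfsg.Agent.Lib.Helper43.SpinorTorus
import Cfsg.Agent.Lib.Helper43.OrthMinus

/-!
# Transfer of `Ω` along a twisting datum
-/

set_option autoImplicit false
set_option linter.unusedSectionVars false
set_option linter.unusedVariables false

namespace Cfsg.Agent.Helper43.GF

open Matrix QuadraticMap Cfsg.Agent.Helper5.OrthAut Cfsg.Agent.Helper40.AutPOm Cfsg.Agent.Helper43

section Transfer

variable {F : Type*} [Field F]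
  {ι ι' : Type} [Fintype ι] [DecidableEq ι] [Fintype ι'] [DecidableEq ι']
  {Q' : QuadraticForm F (ι' → F)} {Q : QuadraticForm F (ι → F)} (T : TwData Q' Q)

/-- conjugation by the isometry, on isometry groups -/
def TwData.conjIso : ↥(Cfsg.isometryGroup F ⇑Q') →* ↥(Cfsg.isometryGroup F ⇑Q) :=
  (T.conj.comp (Cfsg.isometryGroup F ⇑Q').subtype).codRestrict (Cfsg.isometryGroup F ⇑Q)
    (fun g => T.conj_mem_iso g.1 g.2)

theorem TwData.conjIso_val (g : ↥(Cfsg.isometryGroup F ⇑Q')) :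
    ((T.conjIso g : ↥(Cfsg.isometryGroup F ⇑Q)) : GL ι F) = T.conj g.1 := rfl

theorem TwData.conj_mem_OmGL (s : GL ι' F) (hs : s ∈ OmGL (⇑Q')) : T.conj s ∈ OmGL (⇑Q) := by
  obtain ⟨s', hs'⟩ := (mem_OmGL _ _).1 hs
  rw [mem_OmGL]
  have h1 : T.conjIso (s' : ↥(Cfsg.isometryGroup F ⇑Q')) ∈ Cfsg.Omega F ⇑Q := by
    have h2 : (Cfsg.Omega F ⇑Q').map T.conjIso ≤ Cfsg.Omega F ⇑Q := by
      show (commutator _).map T.conjIso ≤ commutator _
      rw [commutator_def, commutator_def, Subgroup.map_commutator]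
      exact Subgroup.commutator_mono le_top le_top
    exact h2 (Subgroup.mem_map_of_mem _ s'.2)
  refine ⟨⟨_, h1⟩, ?_⟩
  show T.conj ((s' : ↥(Cfsg.isometryGroup F ⇑Q')) : GL ι' F) = T.conj s
  rw [hs']

/-- the two-sided transfer: `H s' H' = M` with `s' ∈ Ω(Q')` iff `M ∈ Ω(Q)` -/
theorem TwData.exists_OmGL_iff (A : Matrix ι' ι' F) :
    (∃ s : GL ι F, s ∈ OmGL (⇑Q) ∧ T.H * A * T.H' = (s : Matrix ι ι F)) ↔
      (∃ s' : GL ι' F, s' ∈ OmGL (⇑Q') ∧ A = (s' : Matrix ι' ι' F)) := by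
  constructor
  · rintro ⟨s, hs, hsA⟩
    refine ⟨T.symm.conj s, T.symm.conj_mem_OmGL s hs, ?_⟩
    rw [T.symm.conj_coe, ← hsA]
    show A = T.H' * (T.H * A * T.H') * T.H
    calc A = (T.H' * T.H) * A * (T.H' * T.H) := by rw [T.hH'H, Matrix.one_mul, Matrix.mul_one]
      _ = _ := by simp only [Matrix.mul_assoc]
  · rintro ⟨s', hs', rfl⟩
    exact ⟨T.conj s', T.conj_mem_OmGL s' hs', (T.conj_coe s').symm⟩

end Transfer

end Cfsg.Agent.Helper43.GF
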