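import Mathlib
import Cfsg.Agent.Lib.Helper43.OrthMinus

/-!
# The diagonal-type similarity `g₁` of the minus form
-/

set_option autoImplicit false
set_option linter.unusedSectionVars false
set_option linter.unusedVariables false
set_option linter.unusedSimpArgs false

namespace Cfsg.Agent.Helper43.GF

open Matrix QuadraticMap Cfsg.Agent.Helper43

section G1

variable (K : Type*) [Field K] (k : ℕ) (a b u v lam : K)

local notation "I'" => ((Fin k ⊕ Fin k) ⊕ Fin 2)

/-- `x_i ↦ x_i`, `y_i ↦ lam y_i`, and multiplication by `u - vθ` on the binary part -/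
def g1Mat : Matrix I' I' K :=
  Matrix.fromBlocks (Matrix.fromBlocks (1 : Matrix (Fin k) (Fin k) K) 0 0 (lam • 1)) 0 0
    !![u, -(b * v); v, u + a * v]

theorem g1Mat_x (z : I' → K) (i : Fin k) :
    (g1Mat K k a b u v lam *ᵥ z) (Sum.inl (Sum.inl i)) = z (Sum.inl (Sum.inl i)) := by
  simp [g1Mat, Matrix.fromBlocks_mulVec, Matrix.mulVec, dotProduct, Matrix.one_apply]

theorem g1Mat_y (z : I' → K) (i : Fin k) :
    (g1Mat K k a b u v lam *ᵥ z) (Sum.inl (Sum.inr i)) = lam * z (Sum.inl (Sum.inr i)) := by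
  simp [g1Mat, Matrix.fromBlocks_mulVec, Matrix.mulVec, dotProduct, Matrix.one_apply]

theorem g1Mat_0 (z : I' → K) :
    (g1Mat K k a b u v lam *ᵥ z) (Sum.inr 0) = u * z (Sum.inr 0) - b * v * z (Sum.inr 1) := by
  simp [g1Mat, Matrix.fromBlocks_mulVec, Matrix.mulVec, dotProduct, Fin.sum_univ_two]
  ring

theorem g1Mat_1 (z : I' → K) :
    (g1Mat K k a b u v lam *ᵥ z) (Sum.inr 1) = v * z (Sum.inr 0) + (u + a * v) * z (Sum.inr 1) := by
  simp [g1Mat, Matrix.fromBlocks_mulVec, Matrix.mulVec, dotProduct, Fin.sum_univ_two]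

theorem g1Mat_det (hlam : u ^ 2 + a * u * v + b * v ^ 2 = lam) :
    (g1Mat K k a b u v lam).det = lam ^ (k + 1) := by
  unfold g1Mat
  rw [Matrix.det_fromBlocks_zero₂₁, Matrix.det_fromBlocks_zero₂₁, Matrix.det_one, Matrix.det_smul,
    Matrix.det_one, Matrix.det_fin_two_of, Fintype.card_fin, ← hlam]
  ring

theorem g1Mat_sim (hlam : u ^ 2 + a * u * v + b * v ^ 2 = lam) (z : I' → K) :
    stdMinus K k a b (g1Mat K k a b u v lam *ᵥ z) = lam * stdMinus K k a b z := by
  rw [stdMinus_apply, stdMinus_apply]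
  unfold Cfsg.quadFormMinus
  simp only [g1Mat_x, g1Mat_y, g1Mat_0, g1Mat_1]
  rw [mul_add (a := lam), Finset.mul_sum]
  congr 1
  · apply Finset.sum_congr rfl
    intro i _
    ring
  · rw [← hlam]
    ring

end G1

theorem g1Mat_map {F₀ F : Type*} [Field F₀] [Field F] (emb : F₀ →+* F) (k : ℕ) (a b u v lam : F₀) :
    (g1Mat F₀ k a b u v lam).map emb = g1Mat F k (emb a) (emb b) (emb u) (emb v) (emb lam) := by
  ext i j
  rcases i with (i | i) | i <;> rcases j with (j | j) | j
  all_goals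
    simp only [g1Mat, Matrix.map_apply, Matrix.fromBlocks_apply₁₁, Matrix.fromBlocks_apply₁₂,
      Matrix.fromBlocks_apply₂₁, Matrix.fromBlocks_apply₂₂, Matrix.zero_apply, map_zero,
      Matrix.one_apply, Matrix.smul_apply, smul_eq_mul]
  · split_ifs <;> simp
  · split_ifs <;> simp
  · fin_cases i <;> fin_cases j <;> simp

end Cfsg.Agent.Helper43.GF
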