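import Mathlib
import Cfsg.Agent.Lib.Helper43.GF.SP2b2
import Cfsg.Agent.Lib.Helper43.SpinorTorus

/-!
# The hyperbolic family of the split minus form and the torus formula for `μ⁻¹ g₁`
-/

set_option autoImplicit false
set_option linter.unusedSectionVars false
set_option linter.unusedVariables false
set_option linter.unusedSimpArgs false

namespace Cfsg.Agent.Helper43.GF

open Matrix QuadraticMap Cfsg.Agent.Helper43

section Bin

variable {F : Type*} [Field F] (k : ℕ) (θ θ' : F)

local notation "I'" => ((Fin k ⊕ Fin k) ⊕ Fin 2)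
local notation "Qm" => stdMinus F k (-(θ + θ')) (θ * θ')

/-- the vector `(t, 1)` of the binary part -/
def nvec (t : F) : I' → F := Sum.elim 0 ![t, 1]

@[simp] theorem nvec_inl (t : F) (j : Fin k ⊕ Fin k) : nvec k t (Sum.inl j) = 0 := rfl
@[simp] theorem nvec_zero (t : F) : nvec k t (Sum.inr 0) = t := rfl
@[simp] theorem nvec_one (t : F) : nvec k t (Sum.inr 1) = 1 := rfl

theorem polar_single_x (j : Fin k) (y : I' → F) :
    polar Qm (Pi.single (Sum.inl (Sum.inl j)) 1) y = y (Sum.inl (Sum.inr j)) := by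
  rw [polar_stdMinus]
  simp [Pi.single_apply, Finset.sum_ite_eq']

theorem polar_single_y (j : Fin k) (y : I' → F) :
    polar Qm (Pi.single (Sum.inl (Sum.inr j)) 1) y = y (Sum.inl (Sum.inl j)) := by
  rw [polar_stdMinus]
  simp [Pi.single_apply, Finset.sum_ite_eq']

theorem polar_nvec (t : F) (y : I' → F) :
    polar Qm (nvec k t) y = 2 * t * y (Sum.inr 0) +
      (-(θ + θ')) * (t * y (Sum.inr 1) + y (Sum.inr 0)) + 2 * (θ * θ') * y (Sum.inr 1) := by
  rw [polar_stdMinus]
  simp

theorem Q_nvec (t : F) : Qm (nvec k t) = (t - θ) * (t - θ') := by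
  rw [stdMinus_apply]
  unfold Cfsg.quadFormMinus
  simp
  ring

/-- the hyperbolic family of the split form: the standard pairs and `(n_θ, -(θ-θ')⁻² n_θ')` -/
def eFam : Fin (k + 1) → I' → F :=
  Fin.lastCases (nvec k θ) (fun j => (Pi.single (Sum.inl (Sum.inl j)) 1 : I' → F))

def fFam : Fin (k + 1) → I' → F :=
  Fin.lastCases ((-((θ - θ') ^ 2)⁻¹) • nvec k θ')
    (fun j => (Pi.single (Sum.inl (Sum.inr j)) 1 : I' → F))

@[simp] theorem eFam_last : eFam k θ (Fin.last k) = nvec k θ := by simp [eFam]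
@[simp] theorem eFam_castSucc (j : Fin k) :
    eFam k θ (Fin.castSucc j) = Pi.single (Sum.inl (Sum.inl j)) 1 := by simp [eFam]
@[simp] theorem fFam_last : fFam k θ θ' (Fin.last k) = (-((θ - θ') ^ 2)⁻¹) • nvec k θ' := by
  simp [fFam]
@[simp] theorem fFam_castSucc (j : Fin k) :
    fFam k θ θ' (Fin.castSucc j) = Pi.single (Sum.inl (Sum.inr j)) 1 := by simp [fFam]

theorem isHypFamily_fam (hne : θ ≠ θ') : IsHypFamily Qm (eFam k θ) (fFam k θ θ') := by
  have hstd := stdMinus_isHypFamily F k (-(θ + θ')) (θ * θ')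
  have hd : θ - θ' ≠ 0 := sub_ne_zero.2 hne
  have hd2 : (θ - θ') ^ 2 ≠ 0 := pow_ne_zero _ hd
  have hq1 : Qm (nvec k θ) = 0 := by rw [Q_nvec]; ring
  have hq2 : Qm (nvec k θ') = 0 := by rw [Q_nvec]; ring
  refine ⟨?_, ?_, ?_, ?_, ?_⟩
  · intro i
    refine Fin.lastCases ?_ (fun j => ?_) i
    · rw [eFam_last]; exact hq1
    · rw [eFam_castSucc]; exact hstd.qe j
  · intro i
    refine Fin.lastCases ?_ (fun j => ?_) i
    · rw [fFam_last, QuadraticMap.map_smul, hq2, smul_zero]
    · rw [fFam_castSucc]; exact hstd.qf j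
  · intro i j
    refine Fin.lastCases ?_ (fun i' => ?_) i <;> refine Fin.lastCases ?_ (fun j' => ?_) j
    · rw [eFam_last, fFam_last, polar_smul_right, polar_nvec, if_pos rfl]
      simp only [nvec_zero, nvec_one, smul_eq_mul]
      field_simp
      ring
    · rw [eFam_last, fFam_castSucc, polar_comm, polar_single_y,
        if_neg (Fin.castSucc_lt_last j').ne']
      rfl
    · rw [eFam_castSucc, fFam_last, polar_smul_right, polar_single_x,
        if_neg (Fin.castSucc_lt_last i').ne]
      simp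
    · rw [eFam_castSucc, fFam_castSucc, hstd.ef]
      simp only [Fin.castSucc_inj]
  · intro i j
    refine Fin.lastCases ?_ (fun i' => ?_) i <;> refine Fin.lastCases ?_ (fun j' => ?_) j
    · rw [eFam_last, polar_nvec]
      simp only [nvec_zero, nvec_one]
      ring
    · rw [eFam_last, eFam_castSucc, polar_comm, polar_single_x]
      rfl
    · rw [eFam_castSucc, eFam_last, polar_single_x]
      rfl
    · rw [eFam_castSucc, eFam_castSucc]; exact hstd.ee i' j'
  · intro i j
    refine Fin.lastCases ?_ (fun i' => ?_) i <;> refine Fin.lastCases ?_ (fun j' => ?_) j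
    · rw [fFam_last, polar_smul_left, polar_smul_right, polar_nvec]
      simp only [nvec_zero, nvec_one, smul_eq_mul]
      ring
    · rw [fFam_last, fFam_castSucc, polar_comm, polar_smul_right, polar_single_y]
      simp
    · rw [fFam_castSucc, fFam_last, polar_smul_right, polar_single_y]
      simp
    · rw [fFam_castSucc, fFam_castSucc]; exact hstd.ff i' j'

/-- the eigenvalues -/
def aFam (μ ζ : F) : Fin (k + 1) → F := Fin.lastCases (ζ / μ) (fun _ => μ)

@[simp] theorem aFam_last (μ ζ : F) : aFam k μ ζ (Fin.last k) = ζ / μ := by simp [aFam]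
@[simp] theorem aFam_castSucc (μ ζ : F) (j : Fin k) : aFam k μ ζ (Fin.castSucc j) = μ := by
  simp [aFam]

theorem torus_formula (hne : θ ≠ θ') (μ u v : F) (hμ0 : μ ≠ 0)
    (hμ2 : μ ^ 2 = (u - v * θ) * (u - v * θ')) (y : I' → F) :
    (μ⁻¹ • g1Mat F k (-(θ + θ')) (θ * θ') u v (μ ^ 2)) *ᵥ y =
      y + ∑ i, ((((aFam k μ (u - v * θ) i)⁻¹ - 1) * polar Qm (fFam k θ θ' i) y) • eFam k θ i +
        ((aFam k μ (u - v * θ) i - 1) * polar Qm (eFam k θ i) y) • fFam k θ θ' i) := by
  have hd : θ - θ' ≠ 0 := sub_ne_zero.2 hne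
  have hζ0 : u - v * θ ≠ 0 := by
    intro h
    rw [h, zero_mul] at hμ2
    exact hμ0 (pow_eq_zero_iff (by norm_num) |>.1 hμ2)
  have hζ0' : u - θ * v ≠ 0 := by rwa [mul_comm] at hζ0
  rw [Matrix.smul_mulVec, Fin.sum_univ_castSucc]
  simp only [aFam_last, aFam_castSucc, eFam_last, eFam_castSucc, fFam_last, fFam_castSucc,
    polar_single_x, polar_single_y, polar_smul_left, polar_nvec, smul_eq_mul]
  funext c
  rcases c with (i | i) | c
  · simp only [Pi.smul_apply, g1Mat_x, Pi.add_apply, Finset.sum_apply, smul_eq_mul, nvec_inl,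
      Pi.single_apply, mul_zero, add_zero]
    simp [Finset.sum_ite_eq]
    field_simp
    ring
  · simp only [Pi.smul_apply, g1Mat_y, Pi.add_apply, Finset.sum_apply, smul_eq_mul, nvec_inl,
      Pi.single_apply, mul_zero, add_zero]
    simp [Finset.sum_ite_eq]
    field_simp
    ring
  · fin_cases c
    · simp only [Pi.smul_apply, Pi.add_apply, Finset.sum_apply, smul_eq_mul]
      simp [g1Mat_0]
      field_simp
      linear_combination (-(θ - θ') * (y (Sum.inr 0) - θ' * y (Sum.inr 1)) * θ) * hμ2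
    · simp only [Pi.smul_apply, Pi.add_apply, Finset.sum_apply, smul_eq_mul]
      simp [g1Mat_1]
      field_simp
      linear_combination (-(θ - θ') * (y (Sum.inr 0) - θ' * y (Sum.inr 1))) * hμ2

end Bin

end Cfsg.Agent.Helper43.GF
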