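import Mathlib
import Cfsg.Agent.Lib.Helper43.GF.SP2b1
import Cfsg.Agent.Lib.Helper43.GF.SP2b3
import Cfsg.Agent.Lib.Helper5.OrthLag9

/-!
# The spinor norm of the twisted diagonal similarity `g₁`
-/

set_option autoImplicit false
set_option linter.unusedSectionVars false
set_option linter.unusedVariables false
set_option linter.unusedSimpArgs false

namespace Cfsg.Agent.Helper43.GF

open Matrix QuadraticMap Cfsg.Agent.Helper5.OrthAut Cfsg.Agent.Helper40.AutPOm Cfsg.Agent.Helper43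

section Aux

variable {F : Type*} [Field F] [Fintype F]

theorem g1_Omega_iff_aux (h2 : (2 : F) ≠ 0) (k : ℕ) (a b : F)
    (T : TwData (stdMinus F k a b) (stdPlus F (k + 1))) (θ θ' μ u v : F)
    (ha : a = -(θ + θ')) (hb : b = θ * θ') (hne : θ ≠ θ') (hμ0 : μ ≠ 0)
    (hμ2 : μ ^ 2 = (u - v * θ) * (u - v * θ')) :
    (∃ s : GL (Fin (k + 1) ⊕ Fin (k + 1)) F, s ∈ OmGL (⇑(stdPlus F (k + 1))) ∧
        T.H * g1Mat F k a b u v (μ ^ 2) * T.H' =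
          μ • (s : Matrix (Fin (k + 1) ⊕ Fin (k + 1)) (Fin (k + 1) ⊕ Fin (k + 1)) F)) ↔
      IsSquare (μ ^ (k + 1) * (u - v * θ)) := by
  subst ha hb
  have hd : θ - θ' ≠ 0 := sub_ne_zero.2 hne
  have hζ0 : u - v * θ ≠ 0 := by
    intro h
    rw [h, zero_mul] at hμ2
    exact hμ0 (pow_eq_zero_iff (by norm_num) |>.1 hμ2)
  have hnd : (polarBilin (stdMinus F k (-(θ + θ')) (θ * θ'))).Nondegenerate := by
    apply Cfsg.Agent.Helper5.OrthLag.stdMinus_nondegenerate'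
    have : (-(θ + θ')) ^ 2 - 4 * (θ * θ') = (θ - θ') ^ 2 := by ring
    rw [this]
    exact pow_ne_zero _ hd
  set G : Matrix ((Fin k ⊕ Fin k) ⊕ Fin 2) ((Fin k ⊕ Fin k) ⊕ Fin 2) F :=
    g1Mat F k (-(θ + θ')) (θ * θ') u v (μ ^ 2) with hG
  -- scaling
  have h1 : (∃ s : GL (Fin (k + 1) ⊕ Fin (k + 1)) F, s ∈ OmGL (⇑(stdPlus F (k + 1))) ∧
        T.H * G * T.H' =
          μ • (s : Matrix (Fin (k + 1) ⊕ Fin (k + 1)) (Fin (k + 1) ⊕ Fin (k + 1)) F)) ↔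
      (∃ s : GL (Fin (k + 1) ⊕ Fin (k + 1)) F, s ∈ OmGL (⇑(stdPlus F (k + 1))) ∧
        T.H * (μ⁻¹ • G) * T.H' =
          (s : Matrix (Fin (k + 1) ⊕ Fin (k + 1)) (Fin (k + 1) ⊕ Fin (k + 1)) F)) := by
    constructor
    · rintro ⟨s, hs, h⟩
      refine ⟨s, hs, ?_⟩
      rw [Matrix.mul_smul, Matrix.smul_mul, h, smul_smul, inv_mul_cancel₀ hμ0, one_smul]
    · rintro ⟨s, hs, h⟩
      refine ⟨s, hs, ?_⟩
      rw [← h, Matrix.mul_smul, Matrix.smul_mul, smul_smul, mul_inv_cancel₀ hμ0, one_smul]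
  rw [h1, T.exists_OmGL_iff (μ⁻¹ • G)]
  -- the torus criterion for `Q'`
  have hfam := isHypFamily_fam k θ θ' hne
  have haF : ∀ i, aFam k μ (u - v * θ) i ≠ 0 := by
    intro i
    refine Fin.lastCases ?_ (fun j => ?_) i
    · rw [aFam_last]; exact div_ne_zero hζ0 hμ0
    · rw [aFam_castSucc]; exact hμ0
  have key := exists_mem_Omega_iff_of_torus (stdMinus F k (-(θ + θ')) (θ * θ')) h2 hnd hfam
    (aFam k μ (u - v * θ)) haF (μ⁻¹ • G) (torus_formula k θ θ' hne μ u v hμ0 hμ2)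
  have h3 : (∃ s' : GL ((Fin k ⊕ Fin k) ⊕ Fin 2) F,
      s' ∈ OmGL (⇑(stdMinus F k (-(θ + θ')) (θ * θ'))) ∧
        μ⁻¹ • G = (s' : Matrix ((Fin k ⊕ Fin k) ⊕ Fin 2) ((Fin k ⊕ Fin k) ⊕ Fin 2) F)) ↔
      (∃ g : ↥(Cfsg.isometryGroup F ⇑(stdMinus F k (-(θ + θ')) (θ * θ'))),
        g ∈ Cfsg.Omega F ⇑(stdMinus F k (-(θ + θ')) (θ * θ')) ∧
        ((g : GL ((Fin k ⊕ Fin k) ⊕ Fin 2) F) :
          Matrix ((Fin k ⊕ Fin k) ⊕ Fin 2) ((Fin k ⊕ Fin k) ⊕ Fin 2) F) = μ⁻¹ • G) := by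
    constructor
    · rintro ⟨s', hs', h⟩
      obtain ⟨w, hw⟩ := (mem_OmGL _ _).1 hs'
      exact ⟨w.1, w.2, by rw [hw, h]⟩
    · rintro ⟨g, hg, h⟩
      exact ⟨g.1, (mem_OmGL _ _).2 ⟨⟨g, hg⟩, rfl⟩, h.symm⟩
  rw [h3, key, Fin.prod_univ_castSucc]
  simp only [aFam_last, aFam_castSucc, Finset.prod_const, Finset.card_univ, Fintype.card_fin]
  have h4 : μ ^ (k + 1) * (u - v * θ) = (μ ^ k * ((u - v * θ) / μ)) * (μ * μ) := by
    field_simp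
    ring
  rw [h4]
  constructor
  · intro h
    exact h.mul ⟨μ, rfl⟩
  · rintro ⟨r, hr⟩
    refine ⟨r / μ, ?_⟩
    have h5 : r / μ * (r / μ) = (r * r) / (μ * μ) := by field_simp
    rw [h5, ← hr]
    field_simp

end Aux

section Final

theorem tw_g1_mem_Omega_iff {F₀ F : Type*} [Field F₀] [Fintype F₀] [Field F] [Fintype F] (emb : F₀ →+* F)
    (h2 : (2 : F) ≠ 0) {k : ℕ} (hk : 1 ≤ k) (a₀ b₀ : F₀)
    (T : TwData (stdMinus F k (emb a₀) (emb b₀)) (stdPlus F (k + 1)))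
    (θ θ' μ : F) (u v lam : F₀) (hθ1 : θ + θ' = - emb a₀) (hθ2 : θ * θ' = emb b₀) (hθ3 : θ ≠ θ')
    (huv : u ^ 2 + a₀ * u * v + b₀ * v ^ 2 = lam) (hlam : lam ≠ 0) (hμ : μ ^ 2 = emb lam) :
    ∃ g₁ : GL ((Fin k ⊕ Fin k) ⊕ Fin 2) F₀,
      (∀ z, stdMinus F₀ k a₀ b₀ ((g₁ : Matrix _ _ F₀) *ᵥ z) = lam * stdMinus F₀ k a₀ b₀ z) ∧
      (g₁ : Matrix ((Fin k ⊕ Fin k) ⊕ Fin 2) ((Fin k ⊕ Fin k) ⊕ Fin 2) F₀).det = lam ^ (k + 1) ∧
      ((∃ s : GL (Fin (k + 1) ⊕ Fin (k + 1)) F, s ∈ OmGL (⇑(stdPlus F (k + 1))) ∧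
          ((T.tw emb g₁ : GL (Fin (k + 1) ⊕ Fin (k + 1)) F) :
            Matrix (Fin (k + 1) ⊕ Fin (k + 1)) (Fin (k + 1) ⊕ Fin (k + 1)) F) =
            μ • (s : Matrix (Fin (k + 1) ⊕ Fin (k + 1)) (Fin (k + 1) ⊕ Fin (k + 1)) F)) ↔
        IsSquare (μ ^ (k + 1) * (emb u - emb v * θ))) := by
  have hdet := g1Mat_det F₀ k a₀ b₀ u v lam huv
  have hdet0 : (g1Mat F₀ k a₀ b₀ u v lam).det ≠ 0 := by
    rw [hdet]; exact pow_ne_zero _ hlam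
  refine ⟨Matrix.GeneralLinearGroup.mkOfDetNeZero _ hdet0, ?_, ?_, ?_⟩
  · intro z
    exact g1Mat_sim F₀ k a₀ b₀ u v lam huv z
  · exact hdet
  · have hμ0 : μ ≠ 0 := by
      rintro rfl
      rw [zero_pow (by norm_num)] at hμ
      exact hlam ((map_eq_zero_iff emb emb.injective).1 hμ.symm)
    have ha : emb a₀ = -(θ + θ') := by rw [hθ1, neg_neg]
    have hμ2 : μ ^ 2 = (emb u - emb v * θ) * (emb u - emb v * θ') := by
      rw [hμ, ← huv]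
      simp only [map_add, map_mul, map_pow]
      rw [ha, ← hθ2]
      ring
    have key := g1_Omega_iff_aux h2 k (emb a₀) (emb b₀) T θ θ' μ (emb u) (emb v) ha hθ2.symm hθ3
      hμ0 hμ2
    rw [← key, T.tw_coe]
    have hmap : ((Matrix.GeneralLinearGroup.mkOfDetNeZero _ hdet0 :
        GL ((Fin k ⊕ Fin k) ⊕ Fin 2) F₀) :
        Matrix ((Fin k ⊕ Fin k) ⊕ Fin 2) ((Fin k ⊕ Fin k) ⊕ Fin 2) F₀).map emb =
        g1Mat F k (emb a₀) (emb b₀) (emb u) (emb v) (μ ^ 2) := by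
      rw [hμ, ← g1Mat_map]
      rfl
    rw [hmap]

end Final

end Cfsg.Agent.Helper43.GF
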