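import Mathlib
import Cfsg.Agent.Lib.Helper43.GF.Cent
import Cfsg.Agent.Lib.Helper5.OMFChar2
import Cfsg.Agent.Lib.Helper68.GFSP1

/-!
# A twisted `F₀`-similarity with square multiplier induces an inner automorphism
-/

set_option autoImplicit false
set_option linter.unusedSectionVars false
set_option linter.unusedVariables false
set_option linter.unusedSimpArgs false

namespace Cfsg.Agent.Helper43.GF

open Matrix QuadraticMap Cfsg.Agent.Helper5.OrthAut Cfsg.Agent.Helper40.AutPOm Cfsg.Agent.Helper43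

theorem Theta_mem_inn_of_sq {F₀ F : Type*} [Field F₀] [Fintype F₀] [Field F] [Fintype F] (emb : F₀ →+* F)
    (hcard : Fintype.card F = Fintype.card F₀ ^ 2) (h2 : (2 : F) ≠ 0) {k : ℕ} (hk : 1 ≤ k) (a₀ b₀ : F₀)
    (hab : ∀ z₁ z₂ : F₀, z₁ ^ 2 + a₀ * z₁ * z₂ + b₀ * z₂ ^ 2 = 0 → z₁ = 0 ∧ z₂ = 0)
    (T : TwData (stdMinus F k (emb a₀) (emb b₀)) (stdPlus F (k + 1)))
    (hperf : commutator ↥(Cfsg.Omega F ⇑(stdPlus F (k + 1))) = ⊤)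
    (hcent : ∀ Z : Matrix (Fin (k + 1) ⊕ Fin (k + 1)) (Fin (k + 1) ⊕ Fin (k + 1)) F,
      (∀ s : ↥(Cfsg.Omega F ⇑(stdPlus F (k + 1))),
        Z * omat (⇑(stdPlus F (k + 1))) s = omat (⇑(stdPlus F (k + 1))) s * Z) →
      ∃ c : F, Z = c • (1 : Matrix (Fin (k + 1) ⊕ Fin (k + 1)) (Fin (k + 1) ⊕ Fin (k + 1)) F))
    (g : ↥(GO (stdMinus F₀ k a₀ b₀))) (c₀ : F₀ˣ)
    (hmul : ∀ z, stdMinus F₀ k a₀ b₀ (((g : GL ((Fin k ⊕ Fin k) ⊕ Fin 2) F₀) :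
      Matrix ((Fin k ⊕ Fin k) ⊕ Fin 2) ((Fin k ⊕ Fin k) ⊕ Fin 2) F₀) *ᵥ z) =
      (c₀ : F₀) ^ 2 * stdMinus F₀ k a₀ b₀ z)
    (hdet : ((g : GL ((Fin k ⊕ Fin k) ⊕ Fin 2) F₀) :
      Matrix ((Fin k ⊕ Fin k) ⊕ Fin 2) ((Fin k ⊕ Fin k) ⊕ Fin 2) F₀).det = (c₀ : F₀) ^ (2 * (k + 1))) :
    T.Theta emb (Cfsg.Agent.Helper5.OMF.isBC_stdMinus k emb a₀ b₀) g ∈
      Cfsg.Inn (Cfsg.POmega F ⇑(stdPlus F (k + 1))) := by
  classical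
  have hB := Cfsg.Agent.Helper5.OMF.isBC_stdMinus (F := F) k emb a₀ b₀
  have hc0 : (c₀ : F₀) ≠ 0 := c₀.ne_zero
  set s₀ : GL ((Fin k ⊕ Fin k) ⊕ Fin 2) F₀ := (sclHom c₀)⁻¹ * g.1 with hs₀
  have hs₀coe : (s₀ : Matrix ((Fin k ⊕ Fin k) ⊕ Fin 2) ((Fin k ⊕ Fin k) ⊕ Fin 2) F₀) =
      ((c₀⁻¹ : F₀ˣ) : F₀) • ((g : GL ((Fin k ⊕ Fin k) ⊕ Fin 2) F₀) :
        Matrix ((Fin k ⊕ Fin k) ⊕ Fin 2) ((Fin k ⊕ Fin k) ⊕ Fin 2) F₀) := by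
    rw [hs₀, Units.val_mul, ← map_inv, sclHom_coe, Matrix.smul_mul, Matrix.one_mul]
  have hs₀iso : s₀ ∈ Cfsg.isometryGroup F₀ ⇑(stdMinus F₀ k a₀ b₀) := by
    rw [mem_iso_iff]
    intro z
    rw [hs₀coe, Matrix.smul_mulVec, QuadraticMap.map_smul, hmul, Units.val_inv_eq_inv_val,
      smul_eq_mul]
    field_simp
  have hs₀det : (s₀ : Matrix ((Fin k ⊕ Fin k) ⊕ Fin 2) ((Fin k ⊕ Fin k) ⊕ Fin 2) F₀).det = 1 := by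
    rw [hs₀coe, Matrix.det_smul, hdet, Cfsg.Agent.Helper5.OMF.card_Im, Units.val_inv_eq_inv_val,
      inv_pow]
    have : 2 * k + 2 = 2 * (k + 1) := by ring
    rw [this]
    exact inv_mul_cancel₀ (pow_ne_zero _ hc0)
  have hs₀SO : s₀ ∈ SOG (stdMinus F₀ k a₀ b₀) := (mem_SOG_iff _ _).2 ⟨hs₀iso, hs₀det⟩
  have htwOm := Cfsg.Agent.Helper68.GF.tw_SO_mem_Omega emb hcard h2 hk a₀ b₀ hab T s₀ hs₀SO
  have htwGO : T.tw emb s₀ ∈ GO (stdPlus F (k + 1)) :=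
    iso_le_sim _ (OmGL_le_iso _ htwOm)
  have hec0 : emb (c₀ : F₀) ≠ 0 := by
    rw [Ne, map_eq_zero_iff emb emb.injective]; exact hc0
  have hfact : T.twGO emb hB g =
      scGO (stdPlus F (k + 1)) (Units.mk0 (emb (c₀ : F₀)) hec0) * ⟨T.tw emb s₀, htwGO⟩ := by
    apply Subtype.ext
    apply Units.ext
    show ((T.tw emb g.1 : GL (Fin (k + 1) ⊕ Fin (k + 1)) F) :
        Matrix (Fin (k + 1) ⊕ Fin (k + 1)) (Fin (k + 1) ⊕ Fin (k + 1)) F) =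
      (((scGO (stdPlus F (k + 1)) (Units.mk0 (emb (c₀ : F₀)) hec0) :
        ↥(GO (stdPlus F (k + 1)))) : GL (Fin (k + 1) ⊕ Fin (k + 1)) F) :
        Matrix (Fin (k + 1) ⊕ Fin (k + 1)) (Fin (k + 1) ⊕ Fin (k + 1)) F) *
      ((T.tw emb s₀ : GL (Fin (k + 1) ⊕ Fin (k + 1)) F) :
        Matrix (Fin (k + 1) ⊕ Fin (k + 1)) (Fin (k + 1) ⊕ Fin (k + 1)) F)
    rw [scGO_coe, T.tw_coe, T.tw_coe, hs₀coe, Units.val_mk0, Matrix.smul_mul, Matrix.one_mul]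
    have h3 : (((c₀⁻¹ : F₀ˣ) : F₀) • ((g : GL ((Fin k ⊕ Fin k) ⊕ Fin 2) F₀) :
        Matrix ((Fin k ⊕ Fin k) ⊕ Fin 2) ((Fin k ⊕ Fin k) ⊕ Fin 2) F₀)).map emb =
        emb ((c₀⁻¹ : F₀ˣ) : F₀) • ((g : GL ((Fin k ⊕ Fin k) ⊕ Fin 2) F₀) :
        Matrix ((Fin k ⊕ Fin k) ⊕ Fin 2) ((Fin k ⊕ Fin k) ⊕ Fin 2) F₀).map emb := by
      ext i j
      simp [Matrix.map_apply, Matrix.smul_apply]
    rw [h3, Matrix.mul_smul, Matrix.smul_mul, smul_smul, ← map_mul, ← Units.val_mul,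
      mul_inv_cancel, Units.val_one, map_one, one_smul]
  rw [TwData.Theta_apply, hfact, map_mul, PhiGO_scGO (stdPlus F (k + 1)) hperf hcent, one_mul,
    PhiGO_apply, inn_eq]
  exact Subgroup.mem_map_of_mem _
    (show (⟨T.tw emb s₀, sim_le_NO _ htwGO⟩ : ↥(NO ⇑(stdPlus F (k + 1)))) ∈
      (OmGL ⇑(stdPlus F (k + 1))).subgroupOf (NO ⇑(stdPlus F (k + 1))) from htwOm)

end Cfsg.Agent.Helper43.GF
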