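import Mathlib
import Cfsg.Prelude.Def_LieTypeDatum
import Cfsg.Agent.Lib.Helper43.GF.Cent
import Cfsg.Agent.Lib.Helper40.OrthEvenFinal
import Cfsg.Agent.Lib.Helper5.OrthLag12
import Cfsg.Agent.Lib.Helper5.OMFChar2
import Cfsg.Agent.Lib.Helper33.GFEX
import Cfsg.Agent.Lib.Helper43.GF.ThetaInn
import Cfsg.Agent.Lib.Helper43.GF.SP2b4
import Cfsg.Agent.Lib.Helper23.GFC
import Cfsg.Agent.Lib.Helper43.GF.Arith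
import Cfsg.Agent.Lib.Helper43.GF.PscDet
import Cfsg.Agent.Lib.Helper33.GFNH
import Cfsg.Agent.Lib.Helper46.GFCL
import Cfsg.Agent.Lib.Helper68.GFSP1
import Cfsg.Agent.Lib.Helper40.GFP12
import Cfsg.Agent.Lib.Helper42.GFE1
import Cfsg.Agent.Lib.Helper50.GFO4
import Cfsg.Agent.Lib.Helper23.GFSP2a

/-!
# GF pieces: switching file (re-exports the delivered server pieces under one namespace)
-/

set_option autoImplicit false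

namespace Cfsg.Agent.Helper43.GF.Pieces

open Matrix QuadraticMap Cfsg.Agent.Helper43 Cfsg.Agent.Helper43.GF Cfsg.Agent.Helper5.OrthAut
  Cfsg.Agent.Helper40.OrthEven Cfsg.Agent.Helper40.AutPOm

theorem class_compat {F₀ F : Type*} [Field F₀] [Fintype F₀] [Field F] [Fintype F] (emb : F₀ →+* F)
    (hcard : Fintype.card F = Fintype.card F₀ ^ 2) {k : ℕ} (hk : 3 ≤ k) (a₀ b₀ : F₀)
    (hab : ∀ z₁ z₂ : F₀, z₁ ^ 2 + a₀ * z₁ * z₂ + b₀ * z₂ ^ 2 = 0 → z₁ = 0 ∧ z₂ = 0)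
    (T : TwData (stdMinus F k (emb a₀) (emb b₀)) (stdPlus F (k + 1)))
    (g₀ : GL ((Fin k ⊕ Fin k) ⊕ Fin 2) F₀) (hg₀ : g₀ ∈ GO (stdMinus F₀ k a₀ b₀)) :
    Cfsg.PreservesSingularClasses (⇑(stdPlus F (k + 1)))
        ((T.tw emb g₀ : GL (Fin (k + 1) ⊕ Fin (k + 1)) F) :
          Matrix (Fin (k + 1) ⊕ Fin (k + 1)) (Fin (k + 1) ⊕ Fin (k + 1)) F) ↔
      Cfsg.PreservesSingularClassesMinus k a₀ b₀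
        (g₀ : Matrix ((Fin k ⊕ Fin k) ⊕ Fin 2) ((Fin k ⊕ Fin k) ⊕ Fin 2) F₀) :=
  Cfsg.Agent.Helper46.GF.class_compat emb hcard hk a₀ b₀ hab T g₀ hg₀

theorem tw_SO_mem_Omega {F₀ F : Type*} [Field F₀] [Fintype F₀] [Field F] [Fintype F] (emb : F₀ →+* F)
    (hcard : Fintype.card F = Fintype.card F₀ ^ 2) (h2 : (2 : F) ≠ 0) {k : ℕ} (hk : 1 ≤ k) (a₀ b₀ : F₀)
    (hab : ∀ z₁ z₂ : F₀, z₁ ^ 2 + a₀ * z₁ * z₂ + b₀ * z₂ ^ 2 = 0 → z₁ = 0 ∧ z₂ = 0)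
    (T : TwData (stdMinus F k (emb a₀) (emb b₀)) (stdPlus F (k + 1)))
    (s₀ : GL ((Fin k ⊕ Fin k) ⊕ Fin 2) F₀) (hs₀ : s₀ ∈ SOG (stdMinus F₀ k a₀ b₀)) :
    T.tw emb s₀ ∈ OmGL (⇑(stdPlus F (k + 1))) :=
  Cfsg.Agent.Helper68.GF.tw_SO_mem_Omega emb hcard h2 hk a₀ b₀ hab T s₀ hs₀

theorem gf_normal_form {F : Type*} [Field F] [Fintype F] {ι : Type} [Fintype ι] [DecidableEq ι]
    (Q : QuadraticForm F (ι → F)) (hQA : ∀ σ : F ≃+* F, σ ∈ QAut (⇑Q))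
    (hperf : commutator ↥(Cfsg.Omega F ⇑Q) = ⊤)
    (hcent : ∀ Z : Matrix ι ι F, (∀ s : ↥(Cfsg.Omega F ⇑Q), Z * omat (⇑Q) s = omat (⇑Q) s * Z) →
      ∃ c : F, Z = c • (1 : Matrix ι ι F))
    (C : ClassChar Q) (hnd : (polarBilin Q).Nondegenerate) (hrat : RatHyp Q) (D : RigData Q)
    (hS : StructO (⇑Q) hQA) {p f : ℕ} (hp : p.Prime) (hF : Fintype.card F = p ^ f)
    (x : MulAut (Cfsg.POmega F ⇑Q))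
    (hx : ∃ (α γ φ : MulAut (Cfsg.POmega F ⇑Q)) (σ : F ≃+* F) (v : ι → F) (r' : GL ι F),
        σ ≠ RingEquiv.refl F ∧ Q v ≠ 0 ∧ (∀ i, σ (v i) = v i) ∧
        (r' : Matrix ι ι F) = Cfsg.reflectionMatrix (⇑Q) v ∧
        Cfsg.IsInducedBySemilinearPOmega (⇑Q) r' (RingEquiv.refl F) γ ∧
        Cfsg.IsFieldAutPOmegaOf (⇑Q) σ φ ∧ α * x * α⁻¹ = γ * φ)
    (hx2 : orderOf x = 2) :
    ∃ σ : F ≃+* F, orderOf σ = 2 ∧ Even f ∧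
      (∀ y : MulAut (Cfsg.POmega F ⇑Q),
        (∃ (α γ φ : MulAut (Cfsg.POmega F ⇑Q)) (σ' : F ≃+* F) (v : ι → F) (r' : GL ι F),
          σ' ≠ RingEquiv.refl F ∧ Q v ≠ 0 ∧ (∀ i, σ' (v i) = v i) ∧
          (r' : Matrix ι ι F) = Cfsg.reflectionMatrix (⇑Q) v ∧
          Cfsg.IsInducedBySemilinearPOmega (⇑Q) r' (RingEquiv.refl F) γ ∧
          Cfsg.IsFieldAutPOmegaOf (⇑Q) σ' φ ∧ α * y * α⁻¹ = γ * φ) →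
        orderOf y = 2 →
        ∃ g : ↥(GO Q), C.χ g = -1 ∧ y = PhiGO (⇑Q) g * fieldAutStd (⇑Q) hQA σ) ∧
      (∀ g g' : ↥(GO Q), C.χ g = -1 → C.χ g' = -1 →
        (PhiGO (⇑Q) g * fieldAutStd (⇑Q) hQA σ) ^ 2 = 1 →
        (PhiGO (⇑Q) g' * fieldAutStd (⇑Q) hQA σ) ^ 2 = 1 →
        ∃ h : ↥(GO Q), C.χ h = 1 ∧ PhiGO (⇑Q) g' * fieldAutStd (⇑Q) hQA σ =
          PhiGO (⇑Q) h * (PhiGO (⇑Q) g * fieldAutStd (⇑Q) hQA σ) * (PhiGO (⇑Q) h)⁻¹) :=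
  Cfsg.Agent.Helper40.GF.gf_normal_form Q hQA hperf hcent C hnd hrat D hS hp hF x hx hx2

theorem coc_not_preserves {F₀ F : Type*} [Field F₀] [Fintype F₀] [Field F] [Fintype F] (emb : F₀ →+* F)
    {k : ℕ} (hk : 1 ≤ k) (a₀ b₀ : F₀)
    (hab : ∀ z₁ z₂ : F₀, z₁ ^ 2 + a₀ * z₁ * z₂ + b₀ * z₂ ^ 2 = 0 → z₁ = 0 ∧ z₂ = 0)
    (T : TwData (stdMinus F k (emb a₀) (emb b₀)) (stdPlus F (k + 1)))
    (σ : F ≃+* F) (hσ : orderOf σ = 2) (hι1 : ∀ y, σ (emb y) = emb y)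
    (hι2 : ∀ a, σ a = a → ∃ y, emb y = a) :
    ¬ Cfsg.PreservesSingularClasses (⇑(stdPlus F (k + 1))) (T.coc σ) :=
  Cfsg.Agent.Helper33.GF.coc_not_preserves emb hk a₀ b₀ hab T σ hσ hι1 hι2

theorem inndiag_plus_eq_inn_char2 {F : Type*} [Field F] [Fintype F] (h2 : (2 : F) = 0) {m : ℕ} (hm : 3 ≤ m) :
    Cfsg.inndiagPOmegaPlus m F = Cfsg.Inn (Cfsg.POmega F (Cfsg.quadFormPlus m F)) :=
  Cfsg.Agent.Helper42.GF.inndiag_plus_eq_inn_char2 h2 hm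

theorem splitCount_index_four {X : Type*} [Group X] (H K : Subgroup X) (hKH : K ≤ H)
    (hnorm : ∀ h ∈ H, ∀ k ∈ K, h * k * h⁻¹ ∈ K) (hidx : (K.subgroupOf H).index = 4) (x c₁ : X)
    (hc₁ : c₁ ∈ H ⊓ Subgroup.centralizer {x})
    (hgen : ∀ c ∈ H ⊓ Subgroup.centralizer {x}, c ∈ K ∨ c * c₁⁻¹ ∈ K) :
    (c₁ ∈ K → Cfsg.splitClassCount H K x = 4) ∧ (c₁ ∉ K → Cfsg.splitClassCount H K x = 2) :=
  Cfsg.Agent.Helper50.GF.splitCount_index_four H K hKH hnorm hidx x c₁ hc₁ hgen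

theorem map_equiv_of_ker_eq {G A B : Type*} [Group G] [Group A] [Group B] (f₁ : G →* A) (f₂ : G →* B)
    (hk : f₁.ker = f₂.ker) (S : Subgroup G) : Nonempty (↥(S.map f₁) ≃* ↥(S.map f₂)) :=
  Cfsg.Agent.Helper50.GF.map_equiv_of_ker_eq f₁ f₂ hk S

theorem gf_arith {F₀ F : Type*} [Field F₀] [Fintype F₀] [Field F] [Fintype F] (emb : F₀ →+* F)
    (hcard : Fintype.card F = Fintype.card F₀ ^ 2) (h2 : (2 : F) ≠ 0) (a₀ b₀ : F₀)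
    (hab : ∀ z₁ z₂ : F₀, z₁ ^ 2 + a₀ * z₁ * z₂ + b₀ * z₂ ^ 2 = 0 → z₁ = 0 ∧ z₂ = 0) :
    ∃ (θ θ' μ : F) (u v lam : F₀), θ + θ' = - emb a₀ ∧ θ * θ' = emb b₀ ∧ θ ≠ θ' ∧
      u ^ 2 + a₀ * u * v + b₀ * v ^ 2 = lam ∧ ¬ IsSquare lam ∧ μ ^ 2 = emb lam ∧
      ¬ IsSquare (emb u - emb v * θ) ∧ (IsSquare μ ↔ Fintype.card F₀ % 4 = 3) :=
  Cfsg.Agent.Helper23.GF.gf_arith emb hcard h2 a₀ b₀ hab

theorem tw_g1_mem_Omega_iff {F₀ F : Type*} [Field F₀] [Fintype F₀] [Field F] [Fintype F] (emb : F₀ →+* F)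
    (h2 : (2 : F) ≠ 0) {k : ℕ} (hk : 1 ≤ k) (a₀ b₀ : F₀)
    (T : TwData (stdMinus F k (emb a₀) (emb b₀)) (stdPlus F (k + 1)))
    (θ θ' μ : F) (u v lam : F₀) (hθ1 : θ + θ' = - emb a₀) (hθ2 : θ * θ' = emb b₀) (hθ3 : θ ≠ θ')
    (huv : u ^ 2 + a₀ * u * v + b₀ * v ^ 2 = lam) (hlam : lam ≠ 0) (hμ : μ ^ 2 = emb lam) :
    ∃ g₁ : GL ((Fin k ⊕ Fin k) ⊕ Fin 2) F₀,
      (∀ z, stdMinus F₀ k a₀ b₀ ((g₁ : Matrix _ _ F₀) *ᵥ z) = lam * stdMinus F₀ k a₀ b₀ z) ∧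
      (g₁ : Matrix ((Fin k ⊕ Fin k) ⊕ Fin 2) ((Fin k ⊕ Fin k) ⊕ Fin 2) F₀).det = lam ^ (k + 1) ∧
      ((∃ s : GL (Fin (k + 1) ⊕ Fin (k + 1)) F, s ∈ OmGL (⇑(stdPlus F (k + 1))) ∧
          ((T.tw emb g₁ : GL (Fin (k + 1) ⊕ Fin (k + 1)) F) :
            Matrix (Fin (k + 1) ⊕ Fin (k + 1)) (Fin (k + 1) ⊕ Fin (k + 1)) F) =
            μ • (s : Matrix (Fin (k + 1) ⊕ Fin (k + 1)) (Fin (k + 1) ⊕ Fin (k + 1)) F)) ↔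
        IsSquare (μ ^ (k + 1) * (emb u - emb v * θ))) :=
  Cfsg.Agent.Helper43.GF.tw_g1_mem_Omega_iff emb h2 hk a₀ b₀ T θ θ' μ u v lam hθ1 hθ2 hθ3 huv hlam hμ

theorem isSquare_pow_mul_iff {F : Type*} [Field F] [Fintype F] (h2 : (2 : F) ≠ 0) (μ ζ : F) (hμ : μ ≠ 0)
    (hζ : ¬ IsSquare ζ) (n : ℕ) : IsSquare (μ ^ n * ζ) ↔ (Odd n ∧ ¬ IsSquare μ) :=
  Cfsg.Agent.Helper43.GF.isSquare_pow_mul_iff h2 μ ζ hμ hζ n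

theorem isSquare_mul_inv_of_not {F : Type*} [Field F] [Fintype F] (h2 : (2 : F) ≠ 0) (a b : F)
    (ha : ¬ IsSquare a) (hb : ¬ IsSquare b) : IsSquare (a * b⁻¹) :=
  Cfsg.Agent.Helper43.GF.isSquare_mul_inv_of_not h2 a b ha hb

theorem psc_tw_iff_det {F₀ F : Type*} [Field F₀] [Fintype F₀] [Field F] [Fintype F] (emb : F₀ →+* F)
    (h2 : (2 : F) ≠ 0) {k : ℕ} (a₀ b₀ : F₀)
    (T : TwData (stdMinus F k (emb a₀) (emb b₀)) (stdPlus F (k + 1)))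
    (g₀ : GL ((Fin k ⊕ Fin k) ⊕ Fin 2) F₀) (ν : F₀ˣ)
    (hν : ∀ z, stdMinus F₀ k a₀ b₀ ((g₀ : Matrix _ _ F₀) *ᵥ z) = (ν : F₀) * stdMinus F₀ k a₀ b₀ z) :
    Cfsg.PreservesSingularClasses (⇑(stdPlus F (k + 1)))
        ((T.tw emb g₀ : GL (Fin (k + 1) ⊕ Fin (k + 1)) F) :
          Matrix (Fin (k + 1) ⊕ Fin (k + 1)) (Fin (k + 1) ⊕ Fin (k + 1)) F) ↔
      (g₀ : Matrix ((Fin k ⊕ Fin k) ⊕ Fin 2) ((Fin k ⊕ Fin k) ⊕ Fin 2) F₀).det = (ν : F₀) ^ (k + 1) :=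
  Cfsg.Agent.Helper43.GF.psc_tw_iff_det emb h2 a₀ b₀ T g₀ ν hν

theorem Theta_mem_inn_of_sq {F₀ F : Type*} [Field F₀] [Fintype F₀] [Field F] [Fintype F] (emb : F₀ →+* F)
    (hcard : Fintype.card F = Fintype.card F₀ ^ 2) (h2 : (2 : F) ≠ 0) {k : ℕ} (hk : 1 ≤ k) (a₀ b₀ : F₀)
    (hab : ∀ z₁ z₂ : F₀, z₁ ^ 2 + a₀ * z₁ * z₂ + b₀ * z₂ ^ 2 = 0 → z₁ = 0 ∧ z₂ = 0)
    (T : TwData (stdMinus F k (emb a₀) (emb b₀)) (stdPlus F (k + 1)))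
    (hperf : commutator ↥(Cfsg.Omega F ⇑(stdPlus F (k + 1))) = ⊤)
    (hcent : ∀ Z : Matrix (Fin (k + 1) ⊕ Fin (k + 1)) (Fin (k + 1) ⊕ Fin (k + 1)) F,
      (∀ s : ↥(Cfsg.Omega F ⇑(stdPlus F (k + 1))),
        Z * omat (⇑(stdPlus F (k + 1))) s = omat (⇑(stdPlus F (k + 1))) s * Z) →
      ∃ c : F, Z = c • (1 : Matrix (Fin (k + 1) ⊕ Fin (k + 1)) (Fin (k + 1) ⊕ Fin (k + 1)) F))
    (g : ↥(GO (stdMinus F₀ k a₀ b₀))) (c₀ : F₀ˣ)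
    (hmul : ∀ z, stdMinus F₀ k a₀ b₀ (((g : GL ((Fin k ⊕ Fin k) ⊕ Fin 2) F₀) :
      Matrix ((Fin k ⊕ Fin k) ⊕ Fin 2) ((Fin k ⊕ Fin k) ⊕ Fin 2) F₀) *ᵥ z) =
      (c₀ : F₀) ^ 2 * stdMinus F₀ k a₀ b₀ z)
    (hdet : ((g : GL ((Fin k ⊕ Fin k) ⊕ Fin 2) F₀) :
      Matrix ((Fin k ⊕ Fin k) ⊕ Fin 2) ((Fin k ⊕ Fin k) ⊕ Fin 2) F₀).det = (c₀ : F₀) ^ (2 * (k + 1))) :
    T.Theta emb (Cfsg.Agent.Helper5.OMF.isBC_stdMinus k emb a₀ b₀) g ∈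
      Cfsg.Inn (Cfsg.POmega F ⇑(stdPlus F (k + 1))) :=
  Cfsg.Agent.Helper43.GF.Theta_mem_inn_of_sq emb hcard h2 hk a₀ b₀ hab T hperf hcent g c₀ hmul hdet

theorem PhiGO_mem_inn_iff_smul {F : Type*} [Field F] [Fintype F] (h2 : (2 : F) ≠ 0) {m : ℕ} (hm : 4 ≤ m)
    (hq : Fintype.card F % 4 = 1)
    (hperf : commutator ↥(Cfsg.Omega F ⇑(stdPlus F m)) = ⊤)
    (hcent : ∀ Z : Matrix (Fin m ⊕ Fin m) (Fin m ⊕ Fin m) F,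
      (∀ s : ↥(Cfsg.Omega F ⇑(stdPlus F m)),
        Z * omat (⇑(stdPlus F m)) s = omat (⇑(stdPlus F m)) s * Z) →
      ∃ c : F, Z = c • (1 : Matrix (Fin m ⊕ Fin m) (Fin m ⊕ Fin m) F))
    (G : ↥(GO (stdPlus F m))) (μ lam : F) (hlam : lam ≠ 0) (hμ : μ ^ 2 = lam)
    (hG : ∀ v, stdPlus F m (((G : GL (Fin m ⊕ Fin m) F) :
      Matrix (Fin m ⊕ Fin m) (Fin m ⊕ Fin m) F) *ᵥ v) = lam * stdPlus F m v) :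
    PhiGO (⇑(stdPlus F m)) G ∈ Cfsg.Inn (Cfsg.POmega F ⇑(stdPlus F m)) ↔
      ∃ s : GL (Fin m ⊕ Fin m) F, s ∈ OmGL (⇑(stdPlus F m)) ∧
        ((G : GL (Fin m ⊕ Fin m) F) : Matrix (Fin m ⊕ Fin m) (Fin m ⊕ Fin m) F) =
          μ • (s : Matrix (Fin m ⊕ Fin m) (Fin m ⊕ Fin m) F) :=
  Cfsg.Agent.Helper23.GF.PhiGO_mem_inn_iff_smul h2 hm hq hperf hcent G μ lam hlam hμ hG

end Cfsg.Agent.Helper43.GF.Pieces
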