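import Mathlib
import Cfsg.Agent.Lib.Helper43.GF.Asm1
import Cfsg.Agent.Lib.Helper43.GF.Pieces

/-!
# Graph-field involutions of `PΩ⁺`: `C_{Inndiag}(x₁) ≅ Inndiag(PΩ⁻(F₀))`
-/

set_option autoImplicit false
set_option linter.unusedSectionVars false
set_option linter.unusedVariables false

namespace Cfsg.Agent.Helper43.GF

open Matrix QuadraticMap Cfsg.Agent.Helper5.OrthAut Cfsg.Agent.Helper40.AutPOm
  Cfsg.Agent.Helper40.OrthEven Cfsg.Agent.Helper43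

variable {F₀ : Type*} [Field F₀] [Fintype F₀] {F : Type*} [Field F] [Fintype F]

local notation "I'" k => ((Fin k ⊕ Fin k) ⊕ Fin 2)
local notation "I" k => (Fin (k + 1) ⊕ Fin (k + 1))

theorem stdMinus_single_ne (k : ℕ) (a₀ b₀ : F₀) :
    ∃ z : (I' k) → F₀, stdMinus F₀ k a₀ b₀ z ≠ 0 := by
  refine ⟨Pi.single (Sum.inr 0) 1, ?_⟩
  rw [stdMinus_apply]
  unfold Cfsg.quadFormMinus
  simp

theorem cent_x1_equiv_aux (emb : F₀ →+* F) {k : ℕ} (hk : 3 ≤ k) (a₀ b₀ : F₀)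
    (hab : ∀ z₁ z₂ : F₀, z₁ ^ 2 + a₀ * z₁ * z₂ + b₀ * z₂ ^ 2 = 0 → z₁ = 0 ∧ z₂ = 0)
    (T : TwData (stdMinus F k (emb a₀) (emb b₀)) (stdPlus F (k + 1)))
    (σ : F ≃+* F) (hσ : orderOf σ = 2) (hι1 : ∀ y, σ (emb y) = emb y)
    (hι2 : ∀ a, σ a = a → ∃ y, emb y = a)
    (hQA : ∀ σ : F ≃+* F, σ ∈ QAut (⇑(stdPlus F (k + 1))))
    (hσ' : σ ∈ QAut (⇑(stdMinus F k (emb a₀) (emb b₀))))
    (hperf : commutator ↥(Cfsg.Omega F ⇑(stdPlus F (k + 1))) = ⊤)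
    (hcent : ∀ Z : Matrix (I k) (I k) F, (∀ s : ↥(Cfsg.Omega F ⇑(stdPlus F (k + 1))),
      Z * omat (⇑(stdPlus F (k + 1))) s = omat (⇑(stdPlus F (k + 1))) s * Z) →
      ∃ c : F, Z = c • (1 : Matrix (I k) (I k) F))
    (C : ClassChar (stdPlus F (k + 1)))
    (hCL : ∀ (g₀ : GL (I' k) F₀), g₀ ∈ GO (stdMinus F₀ k a₀ b₀) →
      (Cfsg.PreservesSingularClasses (⇑(stdPlus F (k + 1)))
        ((T.tw emb g₀ : GL (I k) F) : Matrix (I k) (I k) F) ↔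
      Cfsg.PreservesSingularClassesMinus k a₀ b₀ (g₀ : Matrix (I' k) (I' k) F₀)))
    (Qf₀ : ((I' k) → F₀) → F₀) (hQf₀ : ⇑(stdMinus F₀ k a₀ b₀) = Qf₀) :
    Nonempty (↥(inD (stdPlus F (k + 1)) C ⊓ Subgroup.centralizer {T.x1 hQA σ hσ'}) ≃*
      ↥(Cfsg.autSubgroupOf (fun β : Cfsg.POmega F₀ Qf₀ ≃* Cfsg.POmega F₀ Qf₀ =>
        ∃ g : GL (I' k) F₀, g ∈ Cfsg.Geo.quadSimilarityGroup (F := F₀) Qf₀ ∧
          Cfsg.PreservesSingularClassesMinus k a₀ b₀ (g : Matrix (I' k) (I' k) F₀) ∧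
          Cfsg.IsInducedBySemilinearPOmega Qf₀ g (RingEquiv.refl F₀) β))) := by
  subst hQf₀
  have hB := Cfsg.Agent.Helper5.OMF.isBC_stdMinus (F := F) k emb a₀ b₀
  have hab' : AnisoPair a₀ b₀ := hab
  have hperf₀ := Cfsg.Agent.Helper5.OMF.minus_hperf hk a₀ b₀ hab'
  have hcent₀ := Cfsg.Agent.Helper5.OMF.minus_hcent (F := F₀) hk a₀ b₀
  have h1 := T.cent_inD_eq_map emb hB hQA hperf hcent σ hσ' C (stdMinus_single_ne k a₀ b₀) hσ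
    hι1 hι2
  have h2 := inndiagMinus_eq_map emb k a₀ b₀ T C hCL
  have hker : (T.Theta emb hB).ker = (PhiGO ⇑(stdMinus F₀ k a₀ b₀)).ker := by
    rw [T.ker_Theta emb hB hperf hcent]
    ext g
    rw [Subgroup.mem_subgroupOf, MonoidHom.mem_ker,
      PhiGO_eq_one_iff (stdMinus F₀ k a₀ b₀) hperf₀ hcent₀]
  obtain ⟨e⟩ := Pieces.map_equiv_of_ker_eq (T.Theta emb hB) (PhiGO ⇑(stdMinus F₀ k a₀ b₀)) hker
    (T.Gam0 emb hB C)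
  exact ⟨((MulEquiv.subgroupCongr h1).trans e).trans (MulEquiv.subgroupCongr h2.symm)⟩

/-- `C_{Inndiag}(x₁) ≅ Inndiag(PΩ⁻_{2k+2}(F₀))` -/
theorem cent_x1_equiv (emb : F₀ →+* F) {k : ℕ} (hk : 3 ≤ k) (a₀ b₀ : F₀)
    (hab : ∀ z₁ z₂ : F₀, z₁ ^ 2 + a₀ * z₁ * z₂ + b₀ * z₂ ^ 2 = 0 → z₁ = 0 ∧ z₂ = 0)
    (T : TwData (stdMinus F k (emb a₀) (emb b₀)) (stdPlus F (k + 1)))
    (σ : F ≃+* F) (hσ : orderOf σ = 2) (hι1 : ∀ y, σ (emb y) = emb y)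
    (hι2 : ∀ a, σ a = a → ∃ y, emb y = a)
    (hQA : ∀ σ : F ≃+* F, σ ∈ QAut (⇑(stdPlus F (k + 1))))
    (hσ' : σ ∈ QAut (⇑(stdMinus F k (emb a₀) (emb b₀))))
    (hperf : commutator ↥(Cfsg.Omega F ⇑(stdPlus F (k + 1))) = ⊤)
    (hcent : ∀ Z : Matrix (I k) (I k) F, (∀ s : ↥(Cfsg.Omega F ⇑(stdPlus F (k + 1))),
      Z * omat (⇑(stdPlus F (k + 1))) s = omat (⇑(stdPlus F (k + 1))) s * Z) →
      ∃ c : F, Z = c • (1 : Matrix (I k) (I k) F))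
    (C : ClassChar (stdPlus F (k + 1)))
    (hCL : ∀ (g₀ : GL (I' k) F₀), g₀ ∈ GO (stdMinus F₀ k a₀ b₀) →
      (Cfsg.PreservesSingularClasses (⇑(stdPlus F (k + 1)))
        ((T.tw emb g₀ : GL (I k) F) : Matrix (I k) (I k) F) ↔
      Cfsg.PreservesSingularClassesMinus k a₀ b₀ (g₀ : Matrix (I' k) (I' k) F₀))) :
    Nonempty (↥(inD (stdPlus F (k + 1)) C ⊓ Subgroup.centralizer {T.x1 hQA σ hσ'}) ≃*
      ↥(Cfsg.inndiagPOmegaMinus k F₀ a₀ b₀)) :=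
  cent_x1_equiv_aux emb hk a₀ b₀ hab T σ hσ hι1 hι2 hQA hσ' hperf hcent C hCL
    (Cfsg.quadFormMinus k F₀ a₀ b₀) (coe_stdMinus F₀ k a₀ b₀)

end Cfsg.Agent.Helper43.GF
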