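import Mathlib
import Cfsg.Agent.Lib.Helper43.GF.Asm2
import Cfsg.Agent.Lib.Helper5.OrthLag8
import Cfsg.Agent.S2725

/-!
# Graph-field involutions of `PΩ⁺`: the number of `Inn`-classes in the `Inndiag`-class of `x₁`, odd characteristic
-/

set_option autoImplicit false
set_option linter.unusedSectionVars false
set_option linter.unusedVariables false

namespace Cfsg.Agent.Helper43.GF

open Matrix QuadraticMap Cfsg.Agent.Helper5.OrthAut Cfsg.Agent.Helper40.AutPOm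
  Cfsg.Agent.Helper40.OrthEven Cfsg.Agent.Helper43

variable {F₀ : Type*} [Field F₀] [Fintype F₀] {F : Type*} [Field F] [Fintype F]

local notation "I'" k => ((Fin k ⊕ Fin k) ⊕ Fin 2)
local notation "I" k => (Fin (k + 1) ⊕ Fin (k + 1))

theorem count_x1_odd (emb : F₀ →+* F) (hcard : Fintype.card F = Fintype.card F₀ ^ 2)
    (h2 : (2 : F) ≠ 0) {k : ℕ} (hk : 3 ≤ k) (a₀ b₀ : F₀)
    (hab : ∀ z₁ z₂ : F₀, z₁ ^ 2 + a₀ * z₁ * z₂ + b₀ * z₂ ^ 2 = 0 → z₁ = 0 ∧ z₂ = 0)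
    (T : TwData (stdMinus F k (emb a₀) (emb b₀)) (stdPlus F (k + 1)))
    (σ : F ≃+* F) (hσ : orderOf σ = 2) (hι1 : ∀ y, σ (emb y) = emb y)
    (hι2 : ∀ a, σ a = a → ∃ y, emb y = a)
    (hQA : ∀ σ : F ≃+* F, σ ∈ QAut (⇑(stdPlus F (k + 1))))
    (hσ' : σ ∈ QAut (⇑(stdMinus F k (emb a₀) (emb b₀))))
    (hperf : commutator ↥(Cfsg.Omega F ⇑(stdPlus F (k + 1))) = ⊤)
    (hcent : ∀ Z : Matrix (I k) (I k) F, (∀ s : ↥(Cfsg.Omega F ⇑(stdPlus F (k + 1))),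
      Z * omat (⇑(stdPlus F (k + 1))) s = omat (⇑(stdPlus F (k + 1))) s * Z) →
      ∃ c : F, Z = c • (1 : Matrix (I k) (I k) F))
    (C : ClassChar (stdPlus F (k + 1)))
    (hCL : ∀ (g₀ : GL (I' k) F₀), g₀ ∈ GO (stdMinus F₀ k a₀ b₀) →
      (Cfsg.PreservesSingularClasses (⇑(stdPlus F (k + 1)))
        ((T.tw emb g₀ : GL (I k) F) : Matrix (I k) (I k) F) ↔
      Cfsg.PreservesSingularClassesMinus k a₀ b₀ (g₀ : Matrix (I' k) (I' k) F₀))) :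
    ((Odd (k + 1) ∧ Fintype.card F₀ % 4 = 1) →
      Cfsg.splitClassCount (inD (stdPlus F (k + 1)) C)
        (Cfsg.Inn (Cfsg.POmega F ⇑(stdPlus F (k + 1)))) (T.x1 hQA σ hσ') = 4) ∧
    (¬ (Odd (k + 1) ∧ Fintype.card F₀ % 4 = 1) →
      Cfsg.splitClassCount (inD (stdPlus F (k + 1)) C)
        (Cfsg.Inn (Cfsg.POmega F ⇑(stdPlus F (k + 1)))) (T.x1 hQA σ hσ') = 2) := by
  classical
  have hB := Cfsg.Agent.Helper5.OMF.isBC_stdMinus (F := F) k emb a₀ b₀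
  have hQ0 := stdMinus_single_ne k a₀ b₀
  have hfam := stdPlus_isHypFamily F (k + 1)
  have hQ0' : ∃ v : (I k) → F, stdPlus F (k + 1) v ≠ 0 := by
    refine ⟨(Pi.single (Sum.inl 0) 1 : (I k) → F) + Pi.single (Sum.inr 0) 1, ?_⟩
    have h1 := hfam.qe 0
    have h3 := hfam.qf 0
    have h4 := hfam.ef 0 0
    simp only at h1 h3 h4
    rw [QuadraticMap.map_add (stdPlus F (k + 1)), h1, h3, h4]
    simp
  -- cardinalities
  have h2₀ : (2 : F₀) ≠ 0 := two_ne_zero_of_emb emb h2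
  have hchar₀ : ringChar F₀ ≠ 2 := by
    intro h
    apply h2₀
    have := CharP.cast_eq_zero F₀ (ringChar F₀)
    rw [h] at this
    exact_mod_cast this
  have hq₀ : Fintype.card F₀ % 2 = 1 := FiniteField.odd_card_of_char_ne_two hchar₀
  have hq4 : Fintype.card F % 4 = 1 := by
    rw [hcard, Nat.pow_mod]
    have h3 : Fintype.card F₀ % 4 = 1 ∨ Fintype.card F₀ % 4 = 3 := by omega
    rcases h3 with h3 | h3 <;> rw [h3]
  have hoddF : Odd (Fintype.card F) := by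
    rw [Nat.odd_iff]; omega
  -- index four
  have hinD : Cfsg.inndiagPOmegaPlus (k + 1) F = inD (stdPlus F (k + 1)) C :=
    autSubgroupOf_eq_inD (stdPlus F (k + 1)) C
  have hidx : ((Cfsg.Inn (Cfsg.POmega F ⇑(stdPlus F (k + 1)))).subgroupOf
      (inD (stdPlus F (k + 1)) C)).index = 4 := by
    have h5 : (Cfsg.Inn (Cfsg.POmega F (Cfsg.quadFormPlus (k + 1) F))).relIndex
        (Cfsg.inndiagPOmegaPlus (k + 1) F) = 4 := by
      have h := Cfsg.Agent.S2725.result hoddF (by omega : 4 ≤ k + 1)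
      unfold Subgroup.relIndex
      rcases Nat.even_or_odd (k + 1) with hev | hod
      · obtain ⟨φ, hφs, hφk⟩ := h.2.2 hev
        rw [← hφk, Subgroup.index_ker, MonoidHom.range_eq_top.2 hφs, Subgroup.card_top,
          Nat.card_eq_fintype_card]
        rfl
      · obtain ⟨φ, hφs, hφk⟩ := h.2.1 ⟨hod, hq4⟩
        rw [← hφk, Subgroup.index_ker, MonoidHom.range_eq_top.2 hφs, Subgroup.card_top,
          Nat.card_eq_fintype_card]
        rfl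
    rw [hinD] at h5
    exact h5
  have hKH : Cfsg.Inn (Cfsg.POmega F ⇑(stdPlus F (k + 1))) ≤ inD (stdPlus F (k + 1)) C := by
    rw [← hinD, inndiag_eq_inD_plus (k + 1) h2 hQ0']
    exact inn_le_inD (stdPlus F (k + 1)) hQ0' (k + 1)
  have hnorm : ∀ h ∈ inD (stdPlus F (k + 1)) C,
      ∀ k' ∈ Cfsg.Inn (Cfsg.POmega F ⇑(stdPlus F (k + 1))),
      h * k' * h⁻¹ ∈ Cfsg.Inn (Cfsg.POmega F ⇑(stdPlus F (k + 1))) :=
    fun h _ k' hk' => Cfsg.Agent.Helper40.AutPSp.inn_conj_mem_gen h k' hk'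
  -- the arithmetic data and the element `g₁`
  obtain ⟨θ, θ', μ, u, v, lam, hθ1, hθ2, hθ3, huv, hlamns, hμ, hζ, hμsq⟩ :=
    Pieces.gf_arith emb hcard h2 a₀ b₀ hab
  have hlam0 : lam ≠ 0 := by
    rintro rfl
    exact hlamns ⟨0, by simp⟩
  obtain ⟨g₁, hg₁sim, hg₁det, hg₁iff⟩ := Pieces.tw_g1_mem_Omega_iff emb h2 (by omega : 1 ≤ k) a₀ b₀ T
    θ θ' μ u v lam hθ1 hθ2 hθ3 huv hlam0 hμ
  obtain ⟨lamU, hlamU⟩ : ∃ lamU : F₀ˣ, (lamU : F₀) = lam := ⟨Units.mk0 lam hlam0, rfl⟩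
  have hg₁sim' : ∀ z, stdMinus F₀ k a₀ b₀ ((g₁ : Matrix (I' k) (I' k) F₀) *ᵥ z) =
      (lamU : F₀) * stdMinus F₀ k a₀ b₀ z := by
    intro z; rw [hlamU]; exact hg₁sim z
  have hg₁GO : g₁ ∈ GO (stdMinus F₀ k a₀ b₀) := ⟨lamU, hg₁sim'⟩
  obtain ⟨G₁, hG₁⟩ : ∃ G₁ : ↥(GO (stdMinus F₀ k a₀ b₀)), (G₁ : GL (I' k) F₀) = g₁ :=
    ⟨⟨g₁, hg₁GO⟩, rfl⟩
  have hG₁Γ : G₁ ∈ T.Gam0 emb hB C := by
    rw [TwData.mem_Gam0, C.pres, TwData.twGO_val, hG₁]
    exact (Pieces.psc_tw_iff_det emb h2 a₀ b₀ T g₁ lamU hg₁sim').2 (by rw [hlamU]; exact hg₁det)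
  have hmap := T.cent_inD_eq_map emb hB hQA hperf hcent σ hσ' C hQ0 hσ hι1 hι2
  have hc₁ : T.Theta emb hB G₁ ∈ inD (stdPlus F (k + 1)) C ⊓
      Subgroup.centralizer {T.x1 hQA σ hσ'} := by
    rw [hmap]
    exact ⟨G₁, hG₁Γ, rfl⟩
  -- square multiplier gives an inner automorphism
  have hsq : ∀ g ∈ T.Gam0 emb hB C,
      IsSquare ((mult (stdMinus F₀ k a₀ b₀) g : F₀ˣ) : F₀) →
      T.Theta emb hB g ∈ Cfsg.Inn (Cfsg.POmega F ⇑(stdPlus F (k + 1))) := by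
    rintro g hg ⟨c, hc⟩
    have hc0 : c ≠ 0 := by
      rintro rfl
      rw [mul_zero] at hc
      exact Units.ne_zero _ hc
    obtain ⟨cU, hcU⟩ : ∃ cU : F₀ˣ, (cU : F₀) = c := ⟨Units.mk0 c hc0, rfl⟩
    have hpsc : Cfsg.PreservesSingularClasses (⇑(stdPlus F (k + 1)))
        ((T.tw emb g.1 : GL (I k) F) : Matrix (I k) (I k) F) := by
      rw [TwData.mem_Gam0, C.pres, TwData.twGO_val] at hg
      exact hg
    have hdet := (Pieces.psc_tw_iff_det emb h2 a₀ b₀ T g.1 (mult (stdMinus F₀ k a₀ b₀) g)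
      (mult_spec (stdMinus F₀ k a₀ b₀) g)).1 hpsc
    apply Pieces.Theta_mem_inn_of_sq emb hcard h2 (by omega : 1 ≤ k) a₀ b₀ hab T hperf hcent g cU
    · intro z
      rw [hcU, pow_two, ← hc]
      exact mult_spec (stdMinus F₀ k a₀ b₀) g z
    · rw [hdet, hc, hcU, pow_mul, pow_two]
  -- generation modulo inner automorphisms
  have hgen : ∀ c ∈ inD (stdPlus F (k + 1)) C ⊓ Subgroup.centralizer {T.x1 hQA σ hσ'},
      c ∈ Cfsg.Inn (Cfsg.POmega F ⇑(stdPlus F (k + 1))) ∨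
      c * (T.Theta emb hB G₁)⁻¹ ∈ Cfsg.Inn (Cfsg.POmega F ⇑(stdPlus F (k + 1))) := by
    intro c hc
    rw [hmap] at hc
    obtain ⟨g, hg, rfl⟩ := hc
    by_cases hs : IsSquare ((mult (stdMinus F₀ k a₀ b₀) g : F₀ˣ) : F₀)
    · left
      exact hsq g hg hs
    · right
      have h1 : T.Theta emb hB g * (T.Theta emb hB G₁)⁻¹ = T.Theta emb hB (g * G₁⁻¹) := by
        rw [map_mul, map_inv]
      rw [h1]
      apply hsq _ (Subgroup.mul_mem _ hg (Subgroup.inv_mem _ hG₁Γ))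
      have hm1 : mult (stdMinus F₀ k a₀ b₀) G₁ = lamU := by
        apply mult_unique (stdMinus F₀ k a₀ b₀) hQ0 G₁ lamU
        intro z
        show stdMinus F₀ k a₀ b₀ (((G₁ : GL (I' k) F₀) : Matrix (I' k) (I' k) F₀) *ᵥ z) = _
        rw [hG₁]
        exact hg₁sim' z
      have hm2 : mult (stdMinus F₀ k a₀ b₀) (g * G₁⁻¹) =
          mult (stdMinus F₀ k a₀ b₀) g * (mult (stdMinus F₀ k a₀ b₀) G₁)⁻¹ := by
        have := map_mul (multHom (stdMinus F₀ k a₀ b₀) hQ0) g G₁⁻¹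
        rw [map_inv] at this
        exact this
      rw [hm2, hm1, Units.val_mul, Units.val_inv_eq_inv_val, hlamU]
      exact Pieces.isSquare_mul_inv_of_not h2₀ _ _ hs hlamns
  -- when is `c₁` inner
  have hc₁iff : T.Theta emb hB G₁ ∈ Cfsg.Inn (Cfsg.POmega F ⇑(stdPlus F (k + 1))) ↔
      (Odd (k + 1) ∧ Fintype.card F₀ % 4 = 1) := by
    have hμ0 : μ ≠ 0 := by
      rintro rfl
      rw [zero_pow (by norm_num)] at hμ
      exact hlam0 ((map_eq_zero_iff emb emb.injective).1 hμ.symm)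
    have hel0 : emb lam ≠ 0 := by
      rw [Ne, map_eq_zero_iff emb emb.injective]; exact hlam0
    have hsimF : ∀ w, stdPlus F (k + 1)
        ((((T.twGO emb hB G₁ : ↥(GO (stdPlus F (k + 1)))) : GL (I k) F) :
          Matrix (I k) (I k) F) *ᵥ w) = emb lam * stdPlus F (k + 1) w := by
      intro w
      rw [TwData.twGO_val, hG₁]
      exact T.tw_sim emb hB g₁ lam hg₁sim w
    rw [TwData.Theta_apply, Pieces.PhiGO_mem_inn_iff_smul h2 (by omega : 4 ≤ k + 1) hq4 hperf hcent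
      (T.twGO emb hB G₁) μ (emb lam) hel0 hμ hsimF, TwData.twGO_val, hG₁, hg₁iff,
      Pieces.isSquare_pow_mul_iff h2 μ _ hμ0 hζ (k + 1), hμsq]
    constructor
    · rintro ⟨h1, h3⟩
      exact ⟨h1, by omega⟩
    · rintro ⟨h1, h3⟩
      exact ⟨h1, by omega⟩
  have hO4 := Pieces.splitCount_index_four (inD (stdPlus F (k + 1)) C)
    (Cfsg.Inn (Cfsg.POmega F ⇑(stdPlus F (k + 1)))) hKH hnorm hidx (T.x1 hQA σ hσ')
    (T.Theta emb hB G₁) hc₁ hgen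
  exact ⟨fun h => hO4.1 (hc₁iff.2 h), fun h => hO4.2 (fun hc => h (hc₁iff.1 hc))⟩

end Cfsg.Agent.Helper43.GF
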