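import Mathlib
import Cfsg.Agent.Lib.Helper43.GF.Asm3
import Cfsg.Agent.Lib.Helper44.QFBin
import Cfsg.Agent.Lib.Helper40.OEV.A3
import Cfsg.Agent.Lib.Helper5.OrthLag8
import Cfsg.Agent.S2695
import Cfsg.Agent.S2725

/-!
# Involutory graph-field automorphisms of `PΩ⁺_{2m}(F)`, `m ≥ 5`: the main theorem
-/

set_option autoImplicit false
set_option linter.unusedSectionVars false
set_option linter.unusedVariables false

namespace Cfsg.Agent.Helper43.GF

open Matrix QuadraticMap Cfsg.Agent.Helper5.OrthAut Cfsg.Agent.Helper40.AutPOm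
  Cfsg.Agent.Helper40.OrthEven Cfsg.Agent.Helper43 Cfsg.Agent.Helper40.FixK

section Aux

variable {X : Type*} [Group X]

theorem splitClassCount_self (H : Subgroup X) (x : X) : Cfsg.splitClassCount H H x = 1 := by
  unfold Cfsg.splitClassCount
  have hne : Nonempty (Quot fun y z : {y : X // Cfsg.IsConjUnder H x y} =>
      Cfsg.IsConjUnder H y.1 z.1) :=
    ⟨Quot.mk _ ⟨x, 1, H.one_mem, by group⟩⟩
  have hsub : Subsingleton (Quot fun y z : {y : X // Cfsg.IsConjUnder H x y} =>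
      Cfsg.IsConjUnder H y.1 z.1) := by
    constructor
    intro a b
    induction a using Quot.ind with
    | mk y =>
      induction b using Quot.ind with
      | mk z =>
        apply Quot.sound
        obtain ⟨h, hh, hy⟩ := y.2
        obtain ⟨h', hh', hz⟩ := z.2
        refine ⟨h' * h⁻¹, H.mul_mem hh' (H.inv_mem hh), ?_⟩
        rw [hz, hy]
        group
  exact Nat.card_unique

end Aux

section Main

variable {F : Type*} [Field F] [Fintype F]

local notation "I'" k => ((Fin k ⊕ Fin k) ⊕ Fin 2)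
local notation "I" k => (Fin (k + 1) ⊕ Fin (k + 1))

set_option maxHeartbeats 1600000 in
theorem gf_main {p f : ℕ} [Fact p.Prime] (hF : Fintype.card F = p ^ f) (hf : 1 ≤ f) {k : ℕ}
    (hk : 4 ≤ k) (x : MulAut (Cfsg.POmega F (Cfsg.quadFormPlus (k + 1) F)))
    (hx : Cfsg.IsGraphFieldAutClassPOmegaPlus (k + 1) x) (hx2 : orderOf x = 2)
    (F₀ : Type*) [Field F₀] [Fintype F₀] (hF₀ : Fintype.card F₀ = p ^ (f / 2)) :
    Even f ∧
    (∀ y : MulAut (Cfsg.POmega F (Cfsg.quadFormPlus (k + 1) F)),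
      Cfsg.IsGraphFieldAutClassPOmegaPlus (k + 1) y → orderOf y = 2 →
      Cfsg.IsConjUnder (Cfsg.inndiagPOmegaPlus (k + 1) F) x y) ∧
    (∃ a₀ b₀ : F₀, (∀ z₁ z₂ : F₀, z₁ ^ 2 + a₀ * z₁ * z₂ + b₀ * z₂ ^ 2 = 0 → z₁ = 0 ∧ z₂ = 0) ∧
      Nonempty (↥(Cfsg.inndiagPOmegaPlus (k + 1) F ⊓ Subgroup.centralizer {x}) ≃*
        ↥(Cfsg.inndiagPOmegaMinus k F₀ a₀ b₀))) ∧
    (p = 2 → Cfsg.splitClassCount (Cfsg.inndiagPOmegaPlus (k + 1) F)
      (Cfsg.Inn (Cfsg.POmega F (Cfsg.quadFormPlus (k + 1) F))) x = 1) ∧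
    ((p ≠ 2 ∧ Odd (k + 1) ∧ p ^ (f / 2) % 4 = 1) →
      Cfsg.splitClassCount (Cfsg.inndiagPOmegaPlus (k + 1) F)
        (Cfsg.Inn (Cfsg.POmega F (Cfsg.quadFormPlus (k + 1) F))) x = 4) ∧
    ((p ≠ 2 ∧ ¬ (Odd (k + 1) ∧ p ^ (f / 2) % 4 = 1)) →
      Cfsg.splitClassCount (Cfsg.inndiagPOmegaPlus (k + 1) F)
        (Cfsg.Inn (Cfsg.POmega F (Cfsg.quadFormPlus (k + 1) F))) x = 2) := by
  classical
  have hp : p.Prime := Fact.out
  change MulAut (Cfsg.POmega F ⇑(stdPlus F (k + 1))) at x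
  -- the standing facts for the plus form
  have hfam := stdPlus_isHypFamily F (k + 1)
  have hnd := stdPlus_nondegenerate F (k + 1)
  have hcardI : Fintype.card (I k) = 2 * (k + 1) := by
    simp; ring
  have hperf := hperf_of_hyp (stdPlus F (k + 1)) hnd _ _ hfam (by omega) (by rw [hcardI]; omega)
  have hcent := hcent_of_hyp (stdPlus F (k + 1)) hfam (by omega)
    (Cfsg.Agent.Lead.POmegaCard.hspan_plus (k + 1))
  have hex : ∃ U₀ : Submodule F ((I k) → F), IsTSLag (stdPlus F (k + 1)) U₀ := by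
    refine ⟨lagPlus F (k + 1), isLag_lagPlus F (k + 1), ?_⟩
    intro v hv
    rw [stdPlus_apply]
    unfold Cfsg.quadFormPlus
    apply Finset.sum_eq_zero
    intro i _
    rw [(mem_lagPlus F (k + 1) v).1 hv i, mul_zero]
  obtain ⟨χ, hχ1, hχ2, hχ3⟩ := Cfsg.Agent.Helper40.OEV.A3.exists_classChar
    (stdPlus F (k + 1)) hnd hex (Or.inr (by rw [hcardI]; omega))
  let C : ClassChar (stdPlus F (k + 1)) := ⟨χ, hχ1, hχ2, hχ3⟩
  have hrat : RatHyp (stdPlus F (k + 1)) := by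
    refine ⟨k + 1, _, _, hfam, hcardI.symm, by omega, ?_⟩
    intro τ i j
    constructor
    · by_cases hj : j = Sum.inl i
      · rw [hj, Pi.single_eq_same, map_one]
      · rw [Pi.single_eq_of_ne hj, map_zero]
    · by_cases hj : j = Sum.inr i
      · rw [hj, Pi.single_eq_same, map_one]
      · rw [Pi.single_eq_of_ne hj, map_zero]
  have hQA : ∀ σ : F ≃+* F, σ ∈ QAut (⇑(stdPlus F (k + 1))) := qaut_plus (k + 1)
  have D : RigData (stdPlus F (k + 1)) := rigData_plus (by omega)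
  have hS : StructO (⇑(stdPlus F (k + 1))) hQA :=
    (gamma_eq_top_iff (⇑(stdPlus F (k + 1))) hQA).1 (Cfsg.Agent.S2695.result (by omega))
  have hinD : Cfsg.inndiagPOmegaPlus (k + 1) F = inD (stdPlus F (k + 1)) C :=
    autSubgroupOf_eq_inD (stdPlus F (k + 1)) C
  have hDn : (inD (stdPlus F (k + 1)) C).Normal := inD_normal (stdPlus F (k + 1)) hQA C hS
  -- the normal form
  obtain ⟨σ, hσ, hfe, hnf, hconj⟩ := Pieces.gf_normal_form (stdPlus F (k + 1)) hQA hperf hcent C hnd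
    hrat D hS hp hF x hx hx2
  obtain ⟨g, hχg, hxg⟩ := hnf x hx hx2
  have hxpow : (PhiGO (⇑(stdPlus F (k + 1))) g * fieldAutStd (⇑(stdPlus F (k + 1))) hQA σ) ^ 2
      = 1 := by
    rw [← hxg, ← hx2]
    exact pow_orderOf_eq_one x
  rw [hinD]
  refine ⟨hfe, ?_, ?_⟩
  · -- part (2)
    intro y hy hy2
    obtain ⟨g', hχg', hyg⟩ := hnf y hy hy2
    have hypow : (PhiGO (⇑(stdPlus F (k + 1))) g' * fieldAutStd (⇑(stdPlus F (k + 1))) hQA σ) ^ 2
        = 1 := by
      rw [← hyg, ← hy2]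
      exact pow_orderOf_eq_one y
    obtain ⟨h, hχh, hh⟩ := hconj g g' hχg hχg' hxpow hypow
    refine ⟨PhiGO (⇑(stdPlus F (k + 1))) h, (mem_inD_iff _ C _).2 ⟨h, hχh, rfl⟩, ?_⟩
    rw [hyg, hxg]
    exact hh
  -- the fixed field
  have hσsq : σ * σ = 1 := by
    have := pow_orderOf_eq_one σ
    rwa [hσ, pow_two] at this
  obtain ⟨-, hK⟩ := card_fixK σ hp hF hσ (by norm_num)
  have : Fintype (fixK σ) := Fintype.ofFinite _
  have hcardK : Fintype.card F₀ = Fintype.card (fixK σ) := by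
    rw [hF₀, ← hK, Nat.card_eq_fintype_card]
  have e4 : F₀ ≃+* (fixK σ) := FiniteField.ringEquivOfCardEq hcardK
  let emb : F₀ →+* F := (fixK σ).subtype.comp (e4 : F₀ →+* ↥(fixK σ))
  have hι1 : ∀ y, σ (emb y) = emb y := fun y => (e4 y).2
  have hι2 : ∀ a, σ a = a → ∃ y, emb y = a := by
    intro a ha
    refine ⟨e4.symm ⟨a, ha⟩, ?_⟩
    show ((e4 (e4.symm ⟨a, ha⟩) : ↥(fixK σ)) : F) = a
    rw [RingEquiv.apply_symm_apply]
  have hcard : Fintype.card F = Fintype.card F₀ ^ 2 := by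
    obtain ⟨j, hj⟩ := hfe
    rw [hF, hF₀, ← pow_mul, hj]
    congr 1
    omega
  -- the twist
  obtain ⟨a₀, b₀, hab⟩ := Cfsg.Agent.Helper44.QF.exists_aniso F₀
  obtain ⟨T⟩ := Cfsg.Agent.Helper33.GF.exists_twData emb hcard k a₀ b₀ hab
  have hσ' : σ ∈ QAut (⇑(stdMinus F k (emb a₀) (emb b₀))) := by
    rw [coe_stdMinus]
    exact qaut_minus k (emb a₀) (emb b₀) σ (hι1 a₀) (hι1 b₀)
  have hCL := fun g₀ hg₀ => Pieces.class_compat emb hcard (by omega : 3 ≤ k) a₀ b₀ hab T g₀ hg₀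
  -- `x₁`
  have hχc : C.χ (T.cocGO hQA σ hσ') = -1 := by
    rcases C.eq_one_or (T.cocGO hQA σ hσ') with h1 | h1
    · exfalso
      rw [C.pres] at h1
      exact Pieces.coc_not_preserves emb (by omega : 1 ≤ k) a₀ b₀ hab T σ hσ hι1 hι2 h1
    · exact h1
  have hx1pow : (PhiGO (⇑(stdPlus F (k + 1))) (T.cocGO hQA σ hσ') *
      fieldAutStd (⇑(stdPlus F (k + 1))) hQA σ) ^ 2 = 1 := by
    have h1 : T.cocGO hQA σ hσ' * sigmaGO (⇑(stdPlus F (k + 1)))
        (toQAut (⇑(stdPlus F (k + 1))) hQA σ) (T.cocGO hQA σ hσ') = 1 := by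
      apply Subtype.ext
      apply Units.ext
      exact T.coc_mul_sigma_coc σ hσsq
    rw [pow_two]
    calc PhiGO (⇑(stdPlus F (k + 1))) (T.cocGO hQA σ hσ') *
          fieldAutStd (⇑(stdPlus F (k + 1))) hQA σ *
          (PhiGO (⇑(stdPlus F (k + 1))) (T.cocGO hQA σ hσ') *
            fieldAutStd (⇑(stdPlus F (k + 1))) hQA σ)
        = PhiGO (⇑(stdPlus F (k + 1))) (T.cocGO hQA σ hσ') *
          (fieldAutStd (⇑(stdPlus F (k + 1))) hQA σ *
            PhiGO (⇑(stdPlus F (k + 1))) (T.cocGO hQA σ hσ')) *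
            fieldAutStd (⇑(stdPlus F (k + 1))) hQA σ := by simp only [mul_assoc]
      _ = 1 := by
          rw [fieldAutStd_mul_PhiGO, ← mul_assoc, ← map_mul, h1, map_one, one_mul, ← map_mul,
            hσsq, map_one]
  obtain ⟨h, hχh, hh⟩ := hconj g (T.cocGO hQA σ hσ') hχg hχc hxpow hx1pow
  set d : MulAut (Cfsg.POmega F ⇑(stdPlus F (k + 1))) := PhiGO (⇑(stdPlus F (k + 1))) h with hd
  have hdmem : d ∈ inD (stdPlus F (k + 1)) C := (mem_inD_iff _ C _).2 ⟨h, hχh, rfl⟩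
  have hx1 : T.x1 hQA σ hσ' = d * x * d⁻¹ := by
    rw [hxg]
    exact hh
  have hcount : ∀ K : Subgroup (MulAut (Cfsg.POmega F ⇑(stdPlus F (k + 1)))),
      (∀ a k', k' ∈ K → a * k' * a⁻¹ ∈ K) →
      Cfsg.splitClassCount (inD (stdPlus F (k + 1)) C) K (T.x1 hQA σ hσ') =
      Cfsg.splitClassCount (inD (stdPlus F (k + 1)) C) K x := by
    intro K hKn
    rw [hx1]
    apply Cfsg.Agent.Helper40.SplitCount.splitClassCount_conj
    · intro h'
      constructor
      · intro hh'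
        exact hDn.conj_mem h' hh' d
      · intro hh'
        have := hDn.conj_mem _ hh' d⁻¹
        rw [inv_inv] at this
        have h2' : d⁻¹ * (d * h' * d⁻¹) * d = h' := by group
        rw [h2'] at this
        exact this
    · intro k'
      constructor
      · intro hk'
        exact hKn d k' hk'
      · intro hk'
        have := hKn d⁻¹ _ hk'
        rw [inv_inv] at this
        have h2' : d⁻¹ * (d * k' * d⁻¹) * d = k' := by group
        rw [h2'] at this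
        exact this
  have hInn : ∀ a k', k' ∈ Cfsg.Inn (Cfsg.POmega F ⇑(stdPlus F (k + 1))) →
      a * k' * a⁻¹ ∈ Cfsg.Inn (Cfsg.POmega F ⇑(stdPlus F (k + 1))) :=
    fun a k' hk' => Cfsg.Agent.Helper40.AutPSp.inn_conj_mem_gen a k' hk'
  refine ⟨?_, ?_, ?_, ?_⟩
  · -- part (3)
    refine ⟨a₀, b₀, hab, ?_⟩
    have e1 := Cfsg.Agent.Helper40.FieldCent.conjInfCentEquiv (inD (stdPlus F (k + 1)) C) d x
    have heq : inD (stdPlus F (k + 1)) C ⊓ Subgroup.centralizer {d * x * d⁻¹} =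
        inD (stdPlus F (k + 1)) C ⊓ Subgroup.centralizer {T.x1 hQA σ hσ'} := by rw [hx1]
    obtain ⟨e3⟩ := cent_x1_equiv emb (by omega : 3 ≤ k) a₀ b₀ hab T σ hσ hι1 hι2 hQA hσ' hperf hcent
      C hCL
    exact ⟨(e1.trans (MulEquiv.subgroupCongr heq)).trans e3⟩
  · -- `p = 2`
    intro hp2
    have h2 : (2 : F) = 0 := by
      have h1 : ((Fintype.card F : ℕ) : F) = 0 := Nat.cast_card_eq_zero F
      rw [hF, hp2] at h1
      have h3 : (2 : F) ^ f = 0 := by exact_mod_cast h1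
      exact pow_eq_zero_iff (by omega) |>.1 h3
    have hE1 := Pieces.inndiag_plus_eq_inn_char2 (F := F) h2 (by omega : 3 ≤ k + 1)
    rw [hinD] at hE1
    rw [hE1]
    exact splitClassCount_self _ x
  · -- odd, count four
    rintro ⟨hp2, hodd, hmod⟩
    have h2 : (2 : F) ≠ 0 :=
      Cfsg.Agent.Helper43.two_ne_zero_of_odd_card hF ((hp.odd_of_ne_two hp2).pow)
    have hc := (count_x1_odd emb hcard h2 (by omega : 3 ≤ k) a₀ b₀ hab T σ hσ hι1 hι2 hQA hσ' hperf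
      hcent C hCL).1 ⟨hodd, by rw [hF₀]; exact hmod⟩
    exact (hcount _ hInn).symm.trans hc
  · rintro ⟨hp2, hnot⟩
    have h2 : (2 : F) ≠ 0 :=
      Cfsg.Agent.Helper43.two_ne_zero_of_odd_card hF ((hp.odd_of_ne_two hp2).pow)
    have hc := (count_x1_odd emb hcard h2 (by omega : 3 ≤ k) a₀ b₀ hab T σ hσ hι1 hι2 hQA hσ' hperf
      hcent C hCL).2 (by rw [hF₀]; exact hnot)
    exact (hcount _ hInn).symm.trans hc

end Main

end Cfsg.Agent.Helper43.GF
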