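import Mathlib

/-!
# Squares in finite fields of odd characteristic
-/

set_option autoImplicit false

namespace Cfsg.Agent.Helper43.GF

theorem ringChar_ne_two_of {F : Type*} [Field F] (h2 : (2 : F) ≠ 0) : ringChar F ≠ 2 := by
  intro h
  apply h2
  have := CharP.cast_eq_zero F (ringChar F)
  rw [h] at this
  exact_mod_cast this

theorem isSquare_pow_mul_iff {F : Type*} [Field F] [Fintype F] (h2 : (2 : F) ≠ 0) (μ ζ : F) (hμ : μ ≠ 0)
    (hζ : ¬ IsSquare ζ) (n : ℕ) : IsSquare (μ ^ n * ζ) ↔ (Odd n ∧ ¬ IsSquare μ) := by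
  classical
  have hch := ringChar_ne_two_of h2
  have hζ0 : ζ ≠ 0 := by
    rintro rfl
    exact hζ ⟨0, by simp⟩
  have hne : μ ^ n * ζ ≠ 0 := mul_ne_zero (pow_ne_zero _ hμ) hζ0
  have hχζ : quadraticChar F ζ = -1 := (quadraticChar_neg_one_iff_not_isSquare).2 hζ
  rw [← quadraticChar_one_iff_isSquare hne, map_mul, map_pow, hχζ]
  rcases quadraticChar_dichotomy hμ with h1 | h1
  · rw [h1, one_pow]
    constructor
    · intro h
      exact absurd h (by decide)
    · rintro ⟨-, h3⟩
      exact absurd ((quadraticChar_one_iff_isSquare hμ).1 h1) h3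
  · rw [h1]
    have hns : ¬ IsSquare μ := (quadraticChar_neg_one_iff_not_isSquare).1 h1
    rcases Nat.even_or_odd n with he | ho
    · rw [he.neg_one_pow]
      constructor
      · intro h
        exact absurd h (by decide)
      · rintro ⟨h3, -⟩
        exact absurd he (Nat.not_even_iff_odd.2 h3)
    · rw [ho.neg_one_pow]
      constructor
      · intro _
        exact ⟨ho, hns⟩
      · intro _
        decide

theorem isSquare_mul_inv_of_not {F : Type*} [Field F] [Fintype F] (h2 : (2 : F) ≠ 0) (a b : F)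
    (ha : ¬ IsSquare a) (hb : ¬ IsSquare b) : IsSquare (a * b⁻¹) := by
  classical
  have hch := ringChar_ne_two_of h2
  have ha0 : a ≠ 0 := by
    rintro rfl
    exact ha ⟨0, by simp⟩
  have hb0 : b ≠ 0 := by
    rintro rfl
    exact hb ⟨0, by simp⟩
  have hne : a * b ≠ 0 := mul_ne_zero ha0 hb0
  have h1 : IsSquare (a * b) := by
    rw [← quadraticChar_one_iff_isSquare hne, map_mul,
      (quadraticChar_neg_one_iff_not_isSquare).2 ha, (quadraticChar_neg_one_iff_not_isSquare).2 hb]
    norm_num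
  have h3 : a * b⁻¹ = (a * b) * (b⁻¹ * b⁻¹) := by
    field_simp
  rw [h3]
  exact h1.mul ⟨b⁻¹, rfl⟩

end Cfsg.Agent.Helper43.GF
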